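import Cfsg.Agent.Lib.Lie.CubicForm.Form

/-!
# The root elements of type E6 on the 27 coordinates and the reduction steps

The coordinate `9k + 3i + j` is the entry `(i, j)` of the matrix numbered `k`.
-/

set_option autoImplicit false

namespace CfsgLib.Lie.CubicForm

/-- The monomials of the cubic form. -/
def mons : List Mono :=
  [(1, 0, 4, 8),
   (-1, 0, 5, 7),
   (-1, 1, 3, 8),
   (1, 1, 5, 6),
   (1, 2, 3, 7),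
   (-1, 2, 4, 6),
   (1, 9, 13, 17),
   (-1, 9, 14, 16),
   (-1, 10, 12, 17),
   (1, 10, 14, 15),
   (1, 11, 12, 16),
   (-1, 11, 13, 15),
   (1, 18, 22, 26),
   (-1, 18, 23, 25),
   (-1, 19, 21, 26),
   (1, 19, 23, 24),
   (1, 20, 21, 25),
   (-1, 20, 22, 24),
   (-1, 0, 9, 18),
   (-1, 0, 10, 21),
   (-1, 0, 11, 24),
   (-1, 1, 12, 18),
   (-1, 1, 13, 21),
   (-1, 1, 14, 24),
   (-1, 2, 15, 18),
   (-1, 2, 16, 21),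
   (-1, 2, 17, 24),
   (-1, 3, 9, 19),
   (-1, 3, 10, 22),
   (-1, 3, 11, 25),
   (-1, 4, 12, 19),
   (-1, 4, 13, 22),
   (-1, 4, 14, 25),
   (-1, 5, 15, 19),
   (-1, 5, 16, 22),
   (-1, 5, 17, 25),
   (-1, 6, 9, 20),
   (-1, 6, 10, 23),
   (-1, 6, 11, 26),
   (-1, 7, 12, 20),
   (-1, 7, 13, 23),
   (-1, 7, 14, 26),
   (-1, 8, 15, 20),
   (-1, 8, 16, 23),
   (-1, 8, 17, 26)]

/-- The nilpotent matrices of the root elements. -/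
def eTab : List (List CfsgLib.Known.G2Oct.Ent) :=
  [[(0, 2, 0, 1), (0, 5, 3, 1), (0, 8, 6, 1), (0, 9, 15, -1), (0, 10, 16, -1), (0, 11, 17, -1)],
   [(0, 2, 25, -1), (0, 5, 24, 1), (0, 11, 7, -1), (0, 14, 6, 1), (0, 20, 16, -1), (0, 23, 15, 1)],
   [(0, 2, 26, 1), (0, 8, 24, -1), (0, 11, 4, -1), (0, 14, 3, 1), (0, 19, 16, -1), (0, 22, 15, 1)],
   [(0, 1, 15, -1), (0, 2, 12, 1), (0, 10, 24, -1), (0, 11, 21, 1), (0, 19, 6, -1), (0, 20, 3, 1)],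
   [(0, 1, 16, -1), (0, 2, 13, 1), (0, 9, 24, 1), (0, 11, 18, -1), (0, 22, 6, -1), (0, 23, 3, 1)],
   [(0, 5, 26, -1), (0, 8, 25, 1), (0, 11, 1, -1), (0, 14, 0, 1), (0, 18, 16, -1), (0, 21, 15, 1)],
   [(0, 4, 15, 1), (0, 5, 12, -1), (0, 10, 25, 1), (0, 11, 22, -1), (0, 18, 6, -1), (0, 20, 0, 1)],
   [(0, 4, 16, 1), (0, 5, 13, -1), (0, 9, 25, -1), (0, 11, 19, 1), (0, 21, 6, -1), (0, 23, 0, 1)],
   [(0, 7, 15, -1), (0, 8, 12, 1), (0, 10, 26, -1), (0, 11, 23, 1), (0, 18, 3, -1), (0, 19, 0, 1)],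
   [(0, 7, 16, -1), (0, 8, 13, 1), (0, 9, 26, 1), (0, 11, 20, -1), (0, 21, 3, -1), (0, 22, 0, 1)],
   [(0, 1, 0, -1), (0, 4, 3, -1), (0, 7, 6, -1), (0, 9, 12, 1), (0, 10, 13, 1), (0, 11, 14, 1)],
   [(0, 11, 9, 1), (0, 14, 12, 1), (0, 17, 15, 1), (0, 18, 24, -1), (0, 19, 25, -1), (0, 20, 26, -1)],
   [(0, 11, 10, 1), (0, 14, 13, 1), (0, 17, 16, 1), (0, 21, 24, -1), (0, 22, 25, -1), (0, 23, 26, -1)],
   [(0, 1, 25, 1), (0, 4, 24, -1), (0, 11, 8, -1), (0, 17, 6, 1), (0, 20, 13, 1), (0, 23, 12, -1)],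
   [(0, 1, 26, -1), (0, 7, 24, 1), (0, 11, 5, -1), (0, 17, 3, 1), (0, 19, 13, 1), (0, 22, 12, -1)],
   [(0, 4, 26, 1), (0, 7, 25, -1), (0, 11, 2, -1), (0, 17, 0, 1), (0, 18, 13, 1), (0, 21, 12, -1)],
   [(0, 2, 1, 1), (0, 5, 4, 1), (0, 8, 7, 1), (0, 12, 15, -1), (0, 13, 16, -1), (0, 14, 17, -1)],
   [(0, 2, 22, 1), (0, 5, 21, -1), (0, 10, 7, 1), (0, 13, 6, -1), (0, 20, 17, -1), (0, 26, 15, 1)],
   [(0, 2, 19, -1), (0, 5, 18, 1), (0, 9, 7, -1), (0, 12, 6, 1), (0, 23, 17, -1), (0, 26, 16, 1)],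
   [(0, 2, 23, -1), (0, 8, 21, 1), (0, 10, 4, 1), (0, 13, 3, -1), (0, 19, 17, -1), (0, 25, 15, 1)],
   [(0, 2, 20, 1), (0, 8, 18, -1), (0, 9, 4, -1), (0, 12, 3, 1), (0, 22, 17, -1), (0, 25, 16, 1)],
   [(0, 1, 17, 1), (0, 2, 14, -1), (0, 9, 21, 1), (0, 10, 18, -1), (0, 25, 6, 1), (0, 26, 3, -1)],
   [(0, 5, 23, 1), (0, 8, 22, -1), (0, 10, 1, 1), (0, 13, 0, -1), (0, 18, 17, -1), (0, 24, 15, 1)],
   [(0, 5, 20, -1), (0, 8, 19, 1), (0, 9, 1, -1), (0, 12, 0, 1), (0, 21, 17, -1), (0, 24, 16, 1)],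
   [(0, 4, 17, -1), (0, 5, 14, 1), (0, 9, 22, -1), (0, 10, 19, 1), (0, 24, 6, 1), (0, 26, 0, -1)],
   [(0, 7, 17, 1), (0, 8, 14, -1), (0, 9, 23, 1), (0, 10, 20, -1), (0, 24, 3, 1), (0, 25, 0, -1)],
   [(0, 0, 15, 1), (0, 2, 9, -1), (0, 13, 24, -1), (0, 14, 21, 1), (0, 19, 7, -1), (0, 20, 4, 1)],
   [(0, 0, 16, 1), (0, 2, 10, -1), (0, 12, 24, 1), (0, 14, 18, -1), (0, 22, 7, -1), (0, 23, 4, 1)],
   [(0, 0, 6, 1), (0, 1, 7, 1), (0, 2, 8, 1), (0, 20, 18, -1), (0, 23, 21, -1), (0, 26, 24, -1)],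
   [(0, 0, 3, 1), (0, 1, 4, 1), (0, 2, 5, 1), (0, 19, 18, -1), (0, 22, 21, -1), (0, 25, 24, -1)],
   [(0, 3, 15, 1), (0, 5, 9, -1), (0, 13, 25, -1), (0, 14, 22, 1), (0, 18, 7, 1), (0, 20, 1, -1)],
   [(0, 3, 16, 1), (0, 5, 10, -1), (0, 12, 25, 1), (0, 14, 19, -1), (0, 21, 7, 1), (0, 23, 1, -1)],
   [(0, 3, 6, 1), (0, 4, 7, 1), (0, 5, 8, 1), (0, 20, 19, -1), (0, 23, 22, -1), (0, 26, 25, -1)],
   [(0, 6, 15, 1), (0, 8, 9, -1), (0, 13, 26, -1), (0, 14, 23, 1), (0, 18, 4, -1), (0, 19, 1, 1)],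
   [(0, 6, 16, 1), (0, 8, 10, -1), (0, 12, 26, 1), (0, 14, 20, -1), (0, 21, 4, -1), (0, 22, 1, 1)],
   [(0, 10, 9, 1), (0, 13, 12, 1), (0, 16, 15, 1), (0, 18, 21, -1), (0, 19, 22, -1), (0, 20, 23, -1)],
   [(0, 9, 10, 1), (0, 12, 13, 1), (0, 15, 16, 1), (0, 21, 18, -1), (0, 22, 19, -1), (0, 23, 20, -1)],
   [(0, 1, 22, 1), (0, 4, 21, -1), (0, 10, 8, -1), (0, 16, 6, 1), (0, 20, 14, -1), (0, 26, 12, 1)],
   [(0, 1, 19, 1), (0, 4, 18, -1), (0, 9, 8, -1), (0, 15, 6, 1), (0, 23, 14, 1), (0, 26, 13, -1)],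
   [(0, 6, 3, 1), (0, 7, 4, 1), (0, 8, 5, 1), (0, 19, 20, -1), (0, 22, 23, -1), (0, 25, 26, -1)],
   [(0, 1, 23, -1), (0, 7, 21, 1), (0, 10, 5, -1), (0, 16, 3, 1), (0, 19, 14, -1), (0, 25, 12, 1)],
   [(0, 1, 20, -1), (0, 7, 18, 1), (0, 9, 5, -1), (0, 15, 3, 1), (0, 22, 14, 1), (0, 25, 13, -1)],
   [(0, 3, 0, 1), (0, 4, 1, 1), (0, 5, 2, 1), (0, 18, 19, -1), (0, 21, 22, -1), (0, 24, 25, -1)],
   [(0, 6, 0, 1), (0, 7, 1, 1), (0, 8, 2, 1), (0, 18, 20, -1), (0, 21, 23, -1), (0, 24, 26, -1)],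
   [(0, 4, 23, 1), (0, 7, 22, -1), (0, 10, 2, -1), (0, 16, 0, 1), (0, 18, 14, -1), (0, 24, 12, 1)],
   [(0, 4, 20, 1), (0, 7, 19, -1), (0, 9, 2, -1), (0, 15, 0, 1), (0, 21, 14, 1), (0, 24, 13, -1)],
   [(0, 0, 25, -1), (0, 3, 24, 1), (0, 14, 8, -1), (0, 17, 7, 1), (0, 20, 10, -1), (0, 23, 9, 1)],
   [(0, 0, 26, -1), (0, 6, 24, 1), (0, 14, 5, 1), (0, 17, 4, -1), (0, 19, 10, 1), (0, 22, 9, -1)],
   [(0, 0, 12, 1), (0, 1, 9, -1), (0, 16, 24, 1), (0, 17, 21, -1), (0, 19, 8, 1), (0, 20, 5, -1)],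
   [(0, 0, 13, -1), (0, 1, 10, 1), (0, 15, 24, 1), (0, 17, 18, -1), (0, 22, 8, -1), (0, 23, 5, 1)],
   [(0, 3, 26, -1), (0, 6, 25, 1), (0, 14, 2, -1), (0, 17, 1, 1), (0, 18, 10, -1), (0, 21, 9, 1)],
   [(0, 3, 12, 1), (0, 4, 9, -1), (0, 16, 25, 1), (0, 17, 22, -1), (0, 18, 8, -1), (0, 20, 2, 1)],
   [(0, 3, 13, -1), (0, 4, 10, 1), (0, 15, 25, 1), (0, 17, 19, -1), (0, 21, 8, 1), (0, 23, 2, -1)],
   [(0, 6, 12, 1), (0, 7, 9, -1), (0, 16, 26, 1), (0, 17, 23, -1), (0, 18, 5, 1), (0, 19, 2, -1)],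
   [(0, 6, 13, -1), (0, 7, 10, 1), (0, 15, 26, 1), (0, 17, 20, -1), (0, 21, 5, -1), (0, 22, 2, 1)],
   [(0, 1, 2, 1), (0, 4, 5, 1), (0, 7, 8, 1), (0, 15, 12, -1), (0, 16, 13, -1), (0, 17, 14, -1)],
   [(0, 0, 17, 1), (0, 2, 11, -1), (0, 12, 21, -1), (0, 13, 18, 1), (0, 25, 7, -1), (0, 26, 4, 1)],
   [(0, 3, 17, 1), (0, 5, 11, -1), (0, 12, 22, -1), (0, 13, 19, 1), (0, 24, 7, 1), (0, 26, 1, -1)],
   [(0, 6, 17, 1), (0, 8, 11, -1), (0, 12, 23, -1), (0, 13, 20, 1), (0, 24, 4, -1), (0, 25, 1, 1)],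
   [(0, 10, 11, 1), (0, 13, 14, 1), (0, 16, 17, 1), (0, 24, 21, -1), (0, 25, 22, -1), (0, 26, 23, -1)],
   [(0, 9, 11, 1), (0, 12, 14, 1), (0, 15, 17, 1), (0, 24, 18, -1), (0, 25, 19, -1), (0, 26, 20, -1)],
   [(0, 0, 1, -1), (0, 3, 4, -1), (0, 6, 7, -1), (0, 12, 9, 1), (0, 13, 10, 1), (0, 14, 11, 1)],
   [(0, 0, 22, 1), (0, 3, 21, -1), (0, 13, 8, 1), (0, 16, 7, -1), (0, 20, 11, -1), (0, 26, 9, 1)],
   [(0, 0, 19, 1), (0, 3, 18, -1), (0, 12, 8, 1), (0, 15, 7, -1), (0, 23, 11, 1), (0, 26, 10, -1)],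
   [(0, 0, 23, 1), (0, 6, 21, -1), (0, 13, 5, -1), (0, 16, 4, 1), (0, 19, 11, 1), (0, 25, 9, -1)],
   [(0, 0, 20, 1), (0, 6, 18, -1), (0, 12, 5, -1), (0, 15, 4, 1), (0, 22, 11, -1), (0, 25, 10, 1)],
   [(0, 0, 14, 1), (0, 1, 11, -1), (0, 15, 21, 1), (0, 16, 18, -1), (0, 25, 8, 1), (0, 26, 5, -1)],
   [(0, 3, 23, 1), (0, 6, 22, -1), (0, 13, 2, 1), (0, 16, 1, -1), (0, 18, 11, -1), (0, 24, 9, 1)],
   [(0, 3, 20, 1), (0, 6, 19, -1), (0, 12, 2, 1), (0, 15, 1, -1), (0, 21, 11, 1), (0, 24, 10, -1)],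
   [(0, 3, 14, 1), (0, 4, 11, -1), (0, 15, 22, 1), (0, 16, 19, -1), (0, 24, 8, -1), (0, 26, 2, 1)],
   [(0, 6, 14, 1), (0, 7, 11, -1), (0, 15, 23, 1), (0, 16, 20, -1), (0, 24, 5, 1), (0, 25, 2, -1)],
   [(0, 0, 2, 1), (0, 3, 5, 1), (0, 6, 8, 1), (0, 15, 9, -1), (0, 16, 10, -1), (0, 17, 11, -1)]]

/-- The reduction steps, in order. -/
def steps : List Step :=
  [Step.mk 0 [] [] [] [] [(0, []), (1, [(10, 0)]), (2, [(0, 0)]), (3, [(29, 0)]), (4, [(26, 20), (6, 0)]), (5, [(29, 2), (0, 0)]), (6, [(28, 0)]), (7, [(26, 19), (8, 0)]), (8, [(28, 2), (0, 0)]), (9, [(26, 2), (0, 0)]), (10, [(27, 2), (0, 0)]), (11, [(15, 2), (0, 0)]), (12, [(23, 0)]), (13, [(22, 0)]), (14, [(5, 0)]), (15, [(26, 0)]), (16, [(27, 0)]), (17, [(15, 0)]), (18, [(27, 14), (5, 0)]), (19, [(8, 0)]), (20, [(6, 0)]), (21, [(26, 14), (5, 0)]),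 (22, [(9, 0)]), (23, [(7, 0)]), (24, [(26, 13), (22, 0)]), (25, [(25, 0)]), (26, [(24, 0)])] 26 [(0, 2), (5, 14), (6, 20), (7, 23), (8, 19), (9, 22), (10, 1), (15, 17), (22, 13), (23, 12), (24, 26), (25, 25), (42, 3), (43, 6), (44, 16), (45, 15)] [(4, 8), (5, 7), (7, 5), (8, 4), (9, 18), (10, 21), (11, 24), (18, 9), (21, 10), (24, 11)],
   Step.mk 4 [] [] [] [0] [(4, []), (5, [(16, 4)]), (7, [(32, 4)]), (8, [(13, 11), (2, 4)]), (9, [(20, 4)]), (10, [(19, 4)]), (11, [(2, 4)]), (18, [(33, 4)]), (21, [(34, 4)]), (24, [(13, 4)])] 13 [(2, 11), (16, 5), (19, 10), (20, 9), (26, 20), (27, 23), (29, 1), (33, 18), (34, 21), (39, 7), (47, 17), (56, 26), (58, 24), (61, 3), (64, 16), (65, 15)] [(0, 8), (2, 6), (6, 2), (8, 0), (12, 19), (13, 22), (14, 25), (19, 12), (22, 13), (25, 14)],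
   Step.mk 8 [] [] [(4, 0)] [] [(8, [])] 0 [(13, 11), (28, 2), (32, 5), (37, 10), (38, 9), (46, 14), (48, 19), (49, 22), (51, 18), (52, 21), (55, 7), (62, 13), (63, 12), (66, 25), (69, 24), (71, 6)] [(0, 4), (1, 3), (3, 1), (4, 0), (15, 20), (16, 23), (17, 26), (20, 15), (23, 16), (26, 17)],
   Step.mk 1 [(8, 0, 4), (4, 0, 8), (0, 4, 8)] [(5, 0), (7, 0), (9, 0), (10, 0), (11, 0), (18, 0), (21, 0), (24, 0), (2, 4), (6, 4), (12, 4), (13, 4), (14, 4), (19, 4), (22, 4), (25, 4)] [] [] [(1, []), (3, [(30, 15), (3, 1)]), (15, [(3, 1)]), (16, [(4, 1)]), (17, [(21, 1)]), (20, [(30, 1)]), (23, [(31, 1)]), (26, [(14, 1)])] 3 [(30, 20), (31, 23), (50, 17), (57, 26), (67, 16), (68, 15)] [(3, 8)],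
   Step.mk 3 [(8, 0, 4), (4, 0, 8), (0, 4, 8)] [(5, 0), (7, 0), (9, 0), (10, 0), (11, 0), (18, 0), (21, 0), (24, 0), (2, 4), (6, 4), (12, 4), (13, 4), (14, 4), (19, 4), (22, 4), (25, 4)] [(1, 8)] [] [(3, [])] 0 [(3, 20), (4, 23), (14, 17), (21, 26), (40, 16), (41, 15)] [(1, 8)],
   Step.mk 2 [(8, 0, 4), (4, 0, 8), (0, 4, 8), (3, 8, 1), (1, 8, 3)] [(5, 0), (7, 0), (9, 0), (10, 0), (11, 0), (18, 0), (21, 0), (24, 0), (15, 8), (16, 8), (17, 8), (20, 8), (23, 8), (26, 8), (6, 1), (12, 1), (13, 1), (14, 1)] [] [] [(2, []), (19, [(18, 2)]), (22, [(17, 2)]), (25, [(1, 2)])] 1 [(53, 19), (54, 22), (70, 25)] [],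
   Step.mk 6 [(8, 0, 4), (4, 0, 8), (0, 4, 8), (3, 8, 1), (1, 8, 3), (7, 3, 2)] [(5, 0), (9, 0), (10, 0), (11, 0), (18, 0), (21, 0), (24, 0), (15, 8), (16, 8), (17, 8), (20, 8), (23, 8), (26, 8), (2, 3), (19, 3), (22, 3), (25, 3)] [(2, 4)] [] [(6, [])] 0 [(1, 14), (17, 13), (18, 12)] [],
   Step.mk 5 [(8, 0, 4), (4, 0, 8), (0, 4, 8), (6, 4, 2), (2, 4, 6), (3, 8, 1), (1, 8, 3), (7, 3, 2)] [(12, 4), (13, 4), (14, 4), (19, 4), (22, 4), (25, 4), (15, 8), (16, 8), (17, 8), (20, 8), (23, 8), (26, 8), (9, 3), (10, 3), (11, 3), (18, 2), (21, 2), (24, 2)] [(6, 1)] [] [(5, [])] 0 [] [],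
   Step.mk 7 [(8, 0, 4), (4, 0, 8), (0, 4, 8), (6, 4, 2), (2, 4, 6), (3, 8, 1), (1, 8, 3), (5, 1, 6)] [(12, 4), (13, 4), (14, 4), (19, 4), (22, 4), (25, 4), (15, 8), (16, 8), (17, 8), (20, 8), (23, 8), (26, 8), (18, 1), (21, 1), (24, 1), (9, 6), (10, 6), (11, 6)] [(5, 0)] [] [(7, [])] 0 [] [],
   Step.mk 9 [(8, 0, 4), (4, 0, 8), (7, 0, 5), (5, 0, 7), (0, 4, 8), (6, 4, 2), (2, 4, 6), (3, 8, 1), (1, 8, 3)] [(12, 4), (13, 4), (14, 4), (19, 4), (22, 4), (25, 4), (15, 8), (16, 8), (17, 8), (20, 8), (23, 8), (26, 8), (18, 1), (21, 1), (24, 1)] [] [] [(9, []), (10, [(35, 9)]), (11, [(11, 9)])] 36 [(11, 11), (35, 10)] [],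
   Step.mk 18 [(8, 0, 4), (4, 0, 8), (7, 0, 5), (5, 0, 7), (0, 4, 8), (6, 4, 2), (2, 4, 6), (3, 8, 1), (1, 8, 3), (19, 3, 9), (20, 6, 9)] [(12, 4), (13, 4), (14, 4), (22, 4), (25, 4), (15, 8), (16, 8), (17, 8), (23, 8), (26, 8), (9, 3), (10, 3), (11, 3)] [(9, 0)] [] [(18, [])] 0 [(36, 21), (60, 24)] [],
   Step.mk 12 [(8, 0, 4), (4, 0, 8), (7, 0, 5), (5, 0, 7), (18, 0, 9), (9, 0, 18), (0, 4, 8), (6, 4, 2), (2, 4, 6), (3, 8, 1), (1, 8, 3), (19, 3, 9), (15, 2, 18), (20, 6, 9)] [(10, 0), (11, 0), (21, 0), (24, 0), (16, 8), (17, 8), (23, 8), (26, 8), (22, 3), (25, 3), (13, 9), (14, 9)] [(18, 1)] [] [(12, [])] 0 [] [],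
   Step.mk 19 [(8, 0, 4), (4, 0, 8), (7, 0, 5), (5, 0, 7), (18, 0, 9), (9, 0, 18), (0, 4, 8), (6, 4, 2), (2, 4, 6), (3, 8, 1), (1, 8, 3), (12, 1, 18), (15, 2, 18), (20, 6, 9)] [(10, 0), (11, 0), (21, 0), (24, 0), (16, 8), (17, 8), (23, 8), (26, 8), (13, 1), (14, 1), (22, 18), (25, 18)] [(12, 4)] [] [(19, [])] 0 [] [],
   Step.mk 15 [(8, 0, 4), (4, 0, 8), (7, 0, 5), (5, 0, 7), (18, 0, 9), (9, 0, 18), (0, 4, 8), (6, 4, 2), (2, 4, 6), (19, 4, 12), (12, 4, 19), (3, 8, 1), (1, 8, 3), (20, 6, 9)] [(10, 0), (11, 0), (21, 0), (24, 0), (13, 4), (14, 4), (22, 4), (25, 4), (23, 6), (26, 6), (16, 9), (17, 9)] [(19, 5)] [] [(15, [])] 0 [] [],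
   Step.mk 20 [(8, 0, 4), (4, 0, 8), (7, 0, 5), (5, 0, 7), (18, 0, 9), (9, 0, 18), (0, 4, 8), (6, 4, 2), (2, 4, 6), (19, 4, 12), (12, 4, 19), (3, 8, 1), (1, 8, 3), (15, 2, 18)] [(10, 0), (11, 0), (21, 0), (24, 0), (13, 4), (14, 4), (22, 4), (25, 4), (16, 2), (17, 2), (23, 18), (26, 18)] [(15, 8)] [] [(20, [])] 0 [] [],
   Step.mk 10 [(8, 0, 4), (4, 0, 8), (7, 0, 5), (5, 0, 7), (18, 0, 9), (9, 0, 18), (0, 4, 8), (6, 4, 2), (2, 4, 6), (19, 4, 12), (12, 4, 19), (3, 8, 1), (1, 8, 3), (20, 8, 15), (15, 8, 20)] [(13, 4), (14, 4), (22, 4), (25, 4), (16, 8), (17, 8), (23, 8), (26, 8), (21, 1), (24, 1)] [] [] [(10, []), (11, [(12, 10)])] 59 [(12, 11)] [],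
   Step.mk 14 [(8, 0, 4), (4, 0, 8), (7, 0, 5), (5, 0, 7), (18, 0, 9), (9, 0, 18), (21, 0, 10), (0, 4, 8), (6, 4, 2), (2, 4, 6), (19, 4, 12), (12, 4, 19), (3, 8, 1), (1, 8, 3), (20, 8, 15), (15, 8, 20), (22, 3, 10), (23, 6, 10), (17, 12, 10)] [(10, 0), (11, 0), (24, 0), (16, 8), (26, 8), (25, 3)] [(10, 15)] [] [(14, [])] 0 [(59, 13)] [],
   Step.mk 16 [(8, 0, 4), (4, 0, 8), (7, 0, 5), (5, 0, 7), (18, 0, 9), (9, 0, 18), (21, 0, 10), (0, 4, 8), (6, 4, 2), (2, 4, 6), (19, 4, 12), (12, 4, 19), (25, 4, 14), (3, 8, 1), (1, 8, 3), (20, 8, 15), (15, 8, 20), (24, 1, 14), (22, 3, 10), (23, 6, 10), (26, 7, 14), (17, 12, 10), (14, 15, 10), (10, 15, 14)] [(11, 0), (13, 4)] [(14, 9)] [] [(16, [])] 0 [] [],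
   Step.mk 21 [(8, 0, 4), (4, 0, 8), (7, 0, 5), (5, 0, 7), (18, 0, 9), (9, 0, 18), (0, 4, 8), (6, 4, 2), (2, 4, 6), (19, 4, 12), (12, 4, 19), (25, 4, 14), (3, 8, 1), (1, 8, 3), (20, 8, 15), (15, 8, 20), (23, 8, 16), (24, 1, 14), (22, 3, 10), (26, 7, 14), (16, 9, 14), (14, 9, 16), (17, 12, 10), (11, 12, 16), (10, 15, 14)] [(13, 4)] [(16, 2)] [] [(21, [])] 0 [] [],
   Step.mk 22 [(8, 0, 4), (4, 0, 8), (7, 0, 5), (5, 0, 7), (18, 0, 9), (9, 0, 18), (21, 0, 10), (10, 0, 21), (0, 4, 8), (6, 4, 2), (2, 4, 6), (19, 4, 12), (12, 4, 19), (25, 4, 14), (3, 8, 1), (1, 8, 3), (20, 8, 15), (15, 8, 20), (23, 8, 16), (24, 1, 14), (13, 1, 21), (16, 2, 21), (26, 7, 14), (14, 9, 16), (17, 12, 10), (11, 12, 16)] [] [(16, 5)] [] [(22, [])] 0 [] [],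
   Step.mk 26 [(8, 0, 4), (4, 0, 8), (7, 0, 5), (5, 0, 7), (18, 0, 9), (9, 0, 18), (21, 0, 10), (10, 0, 21), (0, 4, 8), (6, 4, 2), (2, 4, 6), (19, 4, 12), (12, 4, 19), (25, 4, 14), (13, 4, 22), (3, 8, 1), (1, 8, 3), (20, 8, 15), (15, 8, 20), (23, 8, 16), (24, 1, 14), (22, 3, 10), (16, 2, 21), (14, 9, 16), (17, 12, 10), (11, 12, 16)] [] [(22, 18)] [] [(26, [])] 0 [] [],
   Step.mk 11 [(8, 0, 4), (4, 0, 8), (7, 0, 5), (5, 0, 7), (18, 0, 9), (9, 0, 18), (21, 0, 10), (10, 0, 21), (0, 4, 8), (6, 4, 2), (2, 4, 6), (19, 4, 12), (12, 4, 19), (25, 4, 14), (13, 4, 22), (3, 8, 1), (1, 8, 3), (20, 8, 15), (15, 8, 20), (23, 8, 16), (17, 8, 26), (24, 1, 14), (22, 3, 10), (16, 2, 21), (26, 7, 14), (14, 7, 26)] [] [(26, 6)] [] [(11, [])] 0 [] [],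
   Step.mk 13 [(8, 0, 4), (4, 0, 8), (7, 0, 5), (5, 0, 7), (18, 0, 9), (9, 0, 18), (21, 0, 10), (10, 0, 21), (24, 0, 11), (0, 4, 8), (6, 4, 2), (2, 4, 6), (19, 4, 12), (12, 4, 19), (25, 4, 14), (3, 8, 1), (1, 8, 3), (20, 8, 15), (15, 8, 20), (23, 8, 16), (17, 8, 26), (22, 3, 10), (16, 2, 21), (11, 6, 26), (26, 6, 11), (14, 7, 26)] [] [(11, 15)] [] [(13, [])] 0 [] [],
   Step.mk 17 [(8, 0, 4), (4, 0, 8), (7, 0, 5), (5, 0, 7), (18, 0, 9), (9, 0, 18), (21, 0, 10), (10, 0, 21), (24, 0, 11), (0, 4, 8), (6, 4, 2), (2, 4, 6), (19, 4, 12), (12, 4, 19), (25, 4, 14), (13, 4, 22), (22, 4, 13), (3, 8, 1), (1, 8, 3), (20, 8, 15), (15, 8, 20), (23, 8, 16), (16, 2, 21), (11, 6, 26), (26, 6, 11), (14, 7, 26)] [] [(13, 9)] [] [(17, [])] 0 [] [],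
   Step.mk 24 [(8, 0, 4), (4, 0, 8), (7, 0, 5), (5, 0, 7), (18, 0, 9), (9, 0, 18), (21, 0, 10), (10, 0, 21), (0, 4, 8), (6, 4, 2), (2, 4, 6), (19, 4, 12), (12, 4, 19), (25, 4, 14), (13, 4, 22), (22, 4, 13), (3, 8, 1), (1, 8, 3), (20, 8, 15), (15, 8, 20), (23, 8, 16), (17, 8, 26), (26, 8, 17), (16, 2, 21), (11, 6, 26), (14, 7, 26)] [] [(17, 2)] [] [(24, [])] 0 [] [],
   Step.mk 23 [(8, 0, 4), (4, 0, 8), (7, 0, 5), (5, 0, 7), (18, 0, 9), (9, 0, 18), (21, 0, 10), (10, 0, 21), (24, 0, 11), (11, 0, 24), (0, 4, 8), (6, 4, 2), (2, 4, 6), (19, 4, 12), (12, 4, 19), (25, 4, 14), (13, 4, 22), (22, 4, 13), (3, 8, 1), (1, 8, 3), (20, 8, 15), (15, 8, 20), (17, 8, 26), (26, 8, 17), (14, 1, 24), (16, 2, 21)] [] [(24, 19)] [] [(23, [])] 0 [] [],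
   Step.mk 25 [(8, 0, 4), (4, 0, 8), (7, 0, 5), (5, 0, 7), (18, 0, 9), (9, 0, 18), (21, 0, 10), (10, 0, 21), (24, 0, 11), (11, 0, 24), (0, 4, 8), (6, 4, 2), (2, 4, 6), (19, 4, 12), (12, 4, 19), (13, 4, 22), (22, 4, 13), (3, 8, 1), (1, 8, 3), (20, 8, 15), (15, 8, 20), (23, 8, 16), (17, 8, 26), (26, 8, 17), (16, 8, 23), (14, 1, 24)] [] [(23, 18)] [] [(25, [])] 0 [] []]

end CfsgLib.Lie.CubicForm
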