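import Cfsg.Prelude.Def_Steinberg
import Cfsg.Prelude.Def_ChevE6
import Cfsg.Agent.Lib.Lie.CubicForm.Data

/-!
# Checks for the 72 root elements of type E6 on the 27 coordinates
-/

set_option autoImplicit false

namespace CfsgLib.Lie.CubicForm

open CfsgLib.Known.G2Oct (Ent ev ev1 pmul pscale eqChk colsLt)
open Cfsg.Lie (chevE6)

/-- The list of a root. -/
def eL (r : ℕ) : List Ent := eTab.getD r []

/-- The opposite root. -/
def opp (r : ℕ) : ℕ := chevE6.neg r

/-- The check of one root against the others. -/
def chkRel (r s : ℕ) : Bool :=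
  if s = r ∨ s = opp r then true else
    match chevE6.commTerms r s with
    | [] => eqChk (pmul (eL r) (eL s)) (pmul (eL s) (eL r))
    | [(k, c, 1, 1)] => eqChk (pmul (eL r) (eL s)) (pmul (eL s) (eL r) ++ pscale 0 c (eL k)) &&
        eqChk (pmul (eL r) (eL k)) [] && eqChk (pmul (eL s) (eL k)) []
    | _ => false

/-- The check of one root. -/
def chkRoot (r : ℕ) : Bool :=
  colsLt 27 (eL r) && eqChk (pmul (eL r) (eL r)) [] &&
    eqChk (pmul (pmul (eL r) (eL (opp r))) (eL r)) (eL r) &&
    eqChk (pmul (pmul (eL (opp r)) (eL r)) (eL (opp r))) (eL (opp r)) &&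
    colsLt 27 (pmul (eL r) (eL (opp r))) && colsLt 27 (pmul (eL (opp r)) (eL r)) && Nat.blt (opp r) 72 &&
    eqChk (pmul (eL (opp r)) (eL (opp r))) []

/-- The coordinates of the image of one coordinate: degree, coefficient, coordinate. -/
def img (L : List Ent) (i : ℕ) : List (ℕ × ℤ × ℕ) :=
  (0, 1, i) :: ((L.filter fun e => e.2.1 == i).map fun e => (1, e.2.2.2, e.2.2.1))

/-- The image of a monomial. -/
def expand1 (L : List Ent) : Mono → List (ℕ × Mono)
  | (c, a, b, d) => (img L a).flatMap fun p => (img L b).flatMap fun q => (img L d).map fun s =>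
      (p.1 + q.1 + s.1, (c * p.2.1 * q.2.1 * s.2.1, p.2.2, q.2.2, s.2.2))

/-- Two terms have the same degree and the same three coordinates. -/
def sameTerm : ℕ × Mono → ℕ × Mono → Bool
  | (m, _, a, b, d), (n, _, x, y, z) => m == n &&
      ((a == x && b == y && d == z) || (a == x && b == z && d == y) || (a == y && b == x && d == z) ||
        (a == y && b == z && d == x) || (a == z && b == x && d == y) || (a == z && b == y && d == x))

/-- All collected coefficients vanish. -/
def termChk : ℕ → List (ℕ × Mono) → Bool
  | _, [] => true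
  | 0, _ :: _ => false
  | k + 1, e :: L => (e.2.1 + ((L.filter (sameTerm e)).map fun f => f.2.1).sum == 0) &&
      termChk k (L.filter fun f => !sameTerm e f)

/-- The check of invariance for one root. -/
def chkInv (r : ℕ) : Bool :=
  termChk 2000 (mons.flatMap (expand1 (eL r)) ++ mons.map fun m => (0, (-m.1, m.2))) &&
    mons.all fun m => Nat.blt m.2.1 27 && Nat.blt m.2.2.1 27 && Nat.blt m.2.2.2 27

/-- The checks. -/
def chkRep : Bool := (List.range 72).all fun r => chkRoot r && chkInv r && (List.range 72).all fun s => chkRel r s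

theorem chkRep_true : chkRep = true := by decide +kernel

end CfsgLib.Lie.CubicForm
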