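import Cfsg.Agent.Lib.Known.G2Oct.Sparse
import Cfsg.Prelude.Def_E6

/-!
# Cubic forms given by lists of monomials

The polar forms of a cubic function that is preserved as a function over a field with at least three elements
are preserved as well.
-/

set_option autoImplicit false

namespace CfsgLib.Lie.CubicForm

/-- A monomial: coefficient and three coordinates. -/
abbrev Mono : Type := ℤ × ℕ × ℕ × ℕ

/-- A reduction step: the coordinate to be fixed, the two kinds of forced zeros, a forced value, a witness of a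
nonzero coordinate, the moves, the scaling root, the clearing roots, the quadratic zeros. -/
structure Step where
  tgt : ℕ
  zp : List (ℕ × ℕ × ℕ)
  zn : List (ℕ × ℕ)
  forced : List (ℕ × ℕ)
  wit : List ℕ
  moves : List (ℕ × List (ℕ × ℕ))
  scale : ℕ
  clear : List (ℕ × ℕ)
  quad : List (ℕ × ℕ)

variable {F : Type*} [CommRing F]

/-- A vector extended by zero. -/
def vx {n : ℕ} (v : Fin n → F) (i : ℕ) : F := if h : i < n then v ⟨i, h⟩ else 0

theorem vx_add {n : ℕ} (u v : Fin n → F) (i : ℕ) : vx (u + v) i = vx u i + vx v i := by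
  unfold vx; split_ifs <;> simp

theorem vx_smul {n : ℕ} (t : F) (v : Fin n → F) (i : ℕ) : vx (t • v) i = t * vx v i := by
  unfold vx; split_ifs <;> simp

theorem vx_zero {n : ℕ} (i : ℕ) : vx (0 : Fin n → F) i = 0 := by unfold vx; split_ifs <;> simp

theorem vx_val {n : ℕ} (v : Fin n → F) (i : Fin n) : vx v i = v i := dif_pos i.2

theorem vx_single {n : ℕ} (a : Fin n) (i : ℕ) :
    vx (Pi.single a (1 : F)) i = if i = (a : ℕ) then 1 else 0 := by
  unfold vx
  by_cases h : i < n
  · rw [dif_pos h, Pi.single_apply]; simp [Fin.ext_iff]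
  · rw [dif_neg h, if_neg (fun e : i = (a : ℕ) => h (by omega))]

/-- The sum of `c u_a v_b w_d` over a list of monomials. -/
def tsum (L : List Mono) (u v w : ℕ → F) : F := (L.map fun m => (m.1 : F) * (u m.2.1 * v m.2.2.1 * w m.2.2.2)).sum

theorem tsum_nil (u v w : ℕ → F) : tsum [] u v w = 0 := rfl

theorem tsum_cons (m : Mono) (L : List Mono) (u v w : ℕ → F) :
    tsum (m :: L) u v w = (m.1 : F) * (u m.2.1 * v m.2.2.1 * w m.2.2.2) + tsum L u v w := by simp [tsum]

theorem tsum_append (L M : List Mono) (u v w : ℕ → F) : tsum (L ++ M) u v w = tsum L u v w + tsum M u v w := by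
  simp [tsum]

theorem tsum_eq_zero (L : List Mono) (u v w : ℕ → F)
    (h : ∀ m ∈ L, u m.2.1 * v m.2.2.1 * w m.2.2.2 = 0) : tsum L u v w = 0 := by
  induction L with
  | nil => rfl
  | cons m L ih =>
    rw [tsum_cons, h m List.mem_cons_self, mul_zero, zero_add, ih fun x hx => h x (List.mem_cons_of_mem _ hx)]

theorem tsum_filter (L : List Mono) (p : Mono → Bool) (u v w : ℕ → F)
    (h : ∀ m ∈ L, p m = false → u m.2.1 * v m.2.2.1 * w m.2.2.2 = 0) : tsum L u v w = tsum (L.filter p) u v w := by
  induction L with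
  | nil => rfl
  | cons m L ih =>
    have ih' := ih fun x hx => h x (List.mem_cons_of_mem _ hx)
    cases hp : p m with
    | false => rw [List.filter_cons_of_neg (by simp [hp]), tsum_cons, h m List.mem_cons_self hp, mul_zero, zero_add, ih']
    | true => rw [List.filter_cons_of_pos hp, tsum_cons, tsum_cons, ih']

/-- The value of the cubic function. -/
def cval (L : List Mono) (v : ℕ → F) : F := tsum L v v v

/-- The three orderings by the last coordinate. -/
def ord3 : Mono → List Mono
  | (c, a, b, d) => [(c, a, b, d), (c, a, d, b), (c, b, d, a)]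

/-- The six orderings. -/
def ord6 : Mono → List Mono
  | (c, a, b, d) => [(c, a, b, d), (c, b, a, d), (c, a, d, b), (c, d, a, b), (c, b, d, a), (c, d, b, a)]

/-- The part linear in the second vector. -/
def dlin (L : List Mono) (u v : ℕ → F) : F := tsum (L.flatMap ord3) u u v

/-- The trilinear form. -/
def ptri (L : List Mono) (u v w : ℕ → F) : F := tsum (L.flatMap ord6) u v w

theorem cval_add_smul (L : List Mono) (u v : ℕ → F) (t : F) :
    cval L (fun i => u i + t * v i) = cval L u + t * dlin L u v + t ^ 2 * dlin L v u + t ^ 3 * cval L v := by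
  induction L with
  | nil => simp [cval, dlin, tsum_nil]
  | cons m L ih =>
    obtain ⟨c, a, b, d⟩ := m
    simp only [cval, dlin, List.flatMap_cons, ord3, tsum_cons, tsum_append, tsum_nil] at ih ⊢
    rw [ih]
    ring

theorem ptri_eq (L : List Mono) (u v w : ℕ → F) :
    ptri L u v w = dlin L (fun i => u i + v i) w - dlin L u w - dlin L v w := by
  induction L with
  | nil => simp [ptri, dlin, tsum_nil]
  | cons m L ih =>
    obtain ⟨c, a, b, d⟩ := m
    simp only [ptri, dlin, List.flatMap_cons, ord3, ord6, tsum_cons, tsum_append, tsum_nil] at ih ⊢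
    rw [ih]
    ring

theorem ptri_comm (L : List Mono) (u v w : ℕ → F) : ptri L u v w = ptri L u w v := by
  induction L with
  | nil => simp [ptri, tsum_nil]
  | cons m L ih =>
    obtain ⟨c, a, b, d⟩ := m
    simp only [ptri, List.flatMap_cons, ord6, tsum_cons, tsum_append, tsum_nil] at ih ⊢
    rw [ih]
    ring

/-- The terms with a given first coordinate. -/
def coFirst (L : List Mono) (a : ℕ) : List Mono := (L.flatMap ord6).filter fun m => m.2.1 == a

/-- The terms with two given first coordinates. -/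
def coPair (L : List Mono) (a b : ℕ) : List Mono := (coFirst L a).filter fun m => m.2.2.1 == b

/-- The terms with a given last coordinate. -/
def coLast (L : List Mono) (f : ℕ) : List Mono := (L.flatMap ord3).filter fun m => m.2.2.2 == f

theorem ptri_first {n : ℕ} (L : List Mono) (a : Fin n) (v w : ℕ → F) :
    ptri L (vx (Pi.single a (1 : F))) v w = tsum (coFirst L a) (vx (Pi.single a (1 : F))) v w :=
  tsum_filter _ _ _ _ _ fun m _ hm => by
    rw [vx_single, if_neg (by simpa using hm)]; simp

theorem ptri_pair {n : ℕ} (L : List Mono) (a b : Fin n) (w : ℕ → F) :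
    ptri L (vx (Pi.single a (1 : F))) (vx (Pi.single b (1 : F))) w =
      tsum (coPair L a b) (vx (Pi.single a (1 : F))) (vx (Pi.single b (1 : F))) w := by
  rw [ptri_first]
  exact tsum_filter _ _ _ _ _ fun m _ hm => by
    rw [vx_single b, if_neg (by simpa using hm)]; simp

theorem ptri_pair_single {n : ℕ} (L : List Mono) (a b : Fin n) (w : ℕ → F) {c : ℤ} {d : ℕ}
    (h : coPair L a b = [(c, (a : ℕ), (b : ℕ), d)]) :
    ptri L (vx (Pi.single a (1 : F))) (vx (Pi.single b (1 : F))) w = c * w d := by
  rw [ptri_pair, h, tsum_cons, tsum_nil, vx_single, vx_single, if_pos rfl, if_pos rfl]; ring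

theorem dlin_last {n : ℕ} (L : List Mono) (u : ℕ → F) (f : Fin n) :
    dlin L u (vx (Pi.single f (1 : F))) = tsum (coLast L f) u u (vx (Pi.single f (1 : F))) :=
  tsum_filter _ _ _ _ _ fun m _ hm => by
    rw [vx_single, if_neg (by simpa using hm)]; simp

/-- No monomial meets a coordinate twice. -/
def SquareFree (L : List Mono) : Prop := ∀ m ∈ L.flatMap ord3, m.2.1 ≠ m.2.2.1

theorem dlin_single {n : ℕ} (L : List Mono) (hL : SquareFree L) (a : Fin n) (v : ℕ → F) :
    dlin L (vx (Pi.single a (1 : F))) v = 0 :=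
  tsum_eq_zero _ _ _ _ fun m hm => by
    rw [vx_single, vx_single]
    by_cases h1 : m.2.1 = (a : ℕ)
    · rw [if_neg fun h2 : m.2.2.1 = (a : ℕ) => hL m hm (h1.trans h2.symm)]; simp
    · rw [if_neg h1]; simp

section Invariance

variable {K : Type*} [Field K] {n : ℕ} (L : List Mono)

/-- The invertible matrices preserving the cubic function. -/
def iso (K : Type*) [Field K] (n : ℕ) (L : List Mono) : Subgroup (GL (Fin n) K) :=
  Cfsg.Lie.funStab K fun v : Fin n → K => cval L (vx v)

theorem iso_cval {g : GL (Fin n) K} (hg : g ∈ iso K n L) (v : Fin n → K) :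
    cval L (vx (Matrix.mulVec (g : Matrix (Fin n) (Fin n) K) v)) = cval L (vx v) := hg v

theorem iso_dlin {g : GL (Fin n) K} (hg : g ∈ iso K n L) {s : K} (hs0 : s ≠ 0) (hs1 : s ≠ 1) (u v : Fin n → K) :
    dlin L (vx (Matrix.mulVec (g : Matrix (Fin n) (Fin n) K) u))
      (vx (Matrix.mulVec (g : Matrix (Fin n) (Fin n) K) v)) = dlin L (vx u) (vx v) := by
  obtain ⟨M, hM⟩ : ∃ M, M = (g : Matrix (Fin n) (Fin n) K) := ⟨_, rfl⟩
  rw [← hM]
  have key : ∀ t : K, t * (dlin L (vx (M.mulVec u)) (vx (M.mulVec v)) - dlin L (vx u) (vx v)) +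
      t ^ 2 * (dlin L (vx (M.mulVec v)) (vx (M.mulVec u)) - dlin L (vx v) (vx u)) = 0 := by
    intro t
    have h := iso_cval L hg (u + t • v)
    rw [← hM, Matrix.mulVec_add, Matrix.mulVec_smul] at h
    have e : ∀ a b : Fin n → K, cval L (vx (a + t • b)) =
        cval L (vx a) + t * dlin L (vx a) (vx b) + t ^ 2 * dlin L (vx b) (vx a) + t ^ 3 * cval L (vx b) := by
      intro a b
      rw [← cval_add_smul]
      exact congrArg _ (funext fun i => by rw [vx_add, vx_smul])
    rw [e, e, hM, iso_cval L hg u, iso_cval L hg v, ← hM] at h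
    linear_combination h
  have h1 := key 1
  have h2 := key s
  have h3 : (s ^ 2 - s) * (dlin L (vx (M.mulVec u)) (vx (M.mulVec v)) - dlin L (vx u) (vx v)) = 0 := by
    linear_combination s ^ 2 * h1 - h2
  rcases mul_eq_zero.1 h3 with h | h
  · refine absurd ?_ hs1
    rcases mul_eq_zero.1 (show s * (s - 1) = 0 by linear_combination h) with h' | h'
    · exact absurd h' hs0
    · exact sub_eq_zero.1 h'
  · exact sub_eq_zero.1 h

theorem iso_ptri {g : GL (Fin n) K} (hg : g ∈ iso K n L) {s : K} (hs0 : s ≠ 0) (hs1 : s ≠ 1) (u v w : Fin n → K) :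
    ptri L (vx (Matrix.mulVec (g : Matrix (Fin n) (Fin n) K) u))
      (vx (Matrix.mulVec (g : Matrix (Fin n) (Fin n) K) v))
      (vx (Matrix.mulVec (g : Matrix (Fin n) (Fin n) K) w)) = ptri L (vx u) (vx v) (vx w) := by
  have e : ∀ a b : Fin n → K, (fun i => vx a i + vx b i) = vx (a + b) := fun a b =>
    funext fun i => (vx_add a b i).symm
  rw [ptri_eq, ptri_eq, e, e, ← Matrix.mulVec_add, iso_dlin L hg hs0 hs1, iso_dlin L hg hs0 hs1,
    iso_dlin L hg hs0 hs1]

end Invariance

end CfsgLib.Lie.CubicForm
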