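import Cfsg.Agent.Lib.Lie.CubicForm.Steps
import Cfsg.Agent.Lib.Lie.Rel.Steinberg
import Cfsg.Agent.Lib.Lie.Rel.Simple
import Cfsg.Agent.Lib.Lie.Rel.Checks

/-!
# The isometry group of the cubic form modulo its centre and the Chevalley group of type E6
-/

set_option autoImplicit false

namespace CfsgLib.Lie.CubicForm

open Cfsg.Lie (chevE6 I27 mat3 cubicT E6univ funStab)
open scoped Matrix MatrixGroups

/-- The numbering of the 27 coordinates. -/
def e27 : I27 ≃ Fin 27 where
  toFun p := ⟨9 * (p.1 : ℕ) + 3 * (p.2.1 : ℕ) + (p.2.2 : ℕ), by omega⟩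
  invFun n := (⟨(n : ℕ) / 9, by omega⟩, ⟨(n : ℕ) / 3 % 3, by omega⟩, ⟨(n : ℕ) % 3, by omega⟩)
  left_inv p := by
    obtain ⟨k, i, j⟩ := p
    refine Prod.ext (Fin.ext ?_) (Prod.ext (Fin.ext ?_) (Fin.ext ?_)) <;> simp only <;> omega
  right_inv n := by
    refine Fin.ext ?_
    simp only
    omega

variable {K : Type*} [Field K]

theorem cubicT_eq (v : I27 → K) : cubicT v = cval mons (vx (v ∘ e27.symm)) := by
  simp only [cval, mons, tsum, List.map_cons, List.map_nil, List.sum_cons, List.sum_nil]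
  simp [cubicT, Matrix.det_fin_three, Matrix.trace_fin_three, Matrix.mul_apply, Fin.sum_univ_three, mat3, vx, e27]
  ring

/-- The change of coordinates. -/
def reidx (K : Type*) [Field K] : GL I27 K ≃* GL (Fin 27) K :=
  Units.mapEquiv (Matrix.reindexAlgEquiv K K e27).toMulEquiv

theorem mem_E6univ (g : GL I27 K) : g ∈ E6univ K ↔ reidx K g ∈ iso K 27 mons := by
  have key : ∀ v : I27 → K, (reidx K g : Matrix (Fin 27) (Fin 27) K) *ᵥ (v ∘ e27.symm) =
      ((g : Matrix I27 I27 K) *ᵥ v) ∘ e27.symm := fun v => by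
    show Matrix.reindex e27 e27 (g : Matrix I27 I27 K) *ᵥ _ = _
    rw [Matrix.reindex_apply, Matrix.submatrix_mulVec_equiv]
    simp [Function.comp_assoc]
  constructor
  · intro h v
    obtain ⟨w, rfl⟩ : ∃ w, w ∘ e27.symm = v := ⟨v ∘ e27, by simp [Function.comp_assoc]⟩
    show cval mons (vx ((reidx K g : Matrix (Fin 27) (Fin 27) K) *ᵥ _)) = cval mons (vx _)
    rw [key, ← cubicT_eq, ← cubicT_eq]
    exact h w
  · intro h w
    show cubicT ((g : Matrix I27 I27 K) *ᵥ w) = cubicT w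
    rw [cubicT_eq, cubicT_eq, ← key]
    exact h _

/-- The two isometry groups are isomorphic. -/
def univEquiv (K : Type*) [Field K] : ↥(iso K 27 mons) ≃* ↥(E6univ K) where
  toFun g := ⟨(reidx K).symm g, (mem_E6univ _).2 (by rw [MulEquiv.apply_symm_apply]; exact g.2)⟩
  invFun g := ⟨reidx K g, (mem_E6univ _).1 g.2⟩
  left_inv g := Subtype.ext ((reidx K).apply_symm_apply _)
  right_inv g := Subtype.ext ((reidx K).symm_apply_apply _)
  map_mul' g h := Subtype.ext (map_mul (reidx K).symm _ _)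

theorem not_comm_root : xU K 0 (1 : K) * xU K (opp 0) 1 ≠ xU K (opp 0) 1 * xU K 0 1 := by
  intro h
  have h1 := congrArg (fun g : GL (Fin 27) K => (g : Matrix (Fin 27) (Fin 27) K)) h
  simp only [Units.val_mul, xU_val, one_smul, mul_add, add_mul, mul_one, one_mul] at h1
  have h2 : am K 0 * am K (opp 0) = am K (opp 0) * am K 0 := by
    linear_combination (norm := abel) h1
  have h3 := (am_triple (K := K) (r := 0) (by norm_num)).1
  rw [h2, mul_assoc, am_sq, mul_zero] at h3
  have h4 := congrFun (congrArg (fun M : Matrix (Fin 27) (Fin 27) K => M *ᵥ bv K 0) h3) 2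
  simp only [Matrix.zero_mulVec, Pi.zero_apply, am, ev_mulVec _ (eL_cols 0)] at h4
  simp [rowVal, eL, eTab, vx_bv] at h4

theorem e6_equiv {σ : K} (hσ0 : σ ≠ 0) (hσ1 : σ ≠ 1) :
    Nonempty ((↥(E6univ K) ⧸ Subgroup.center ↥(E6univ K)) ≃* ↥(chevE6.group K)) := by
  classical
  have C := CfsgLib.Lie.Chev.certE6
  have hc : CfsgLib.Lie.Chev.Rel.Connected chevE6 := CfsgLib.Lie.Chev.connected_of_chk (by decide +kernel)
  have hp : CfsgLib.Lie.Chev.Rel.PerfectData chevE6 K :=
    CfsgLib.Lie.Chev.perfectData_of_chk (by decide +kernel) K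
  have hsimple : IsSimpleGroup ↥(chevE6.group K) :=
    (CfsgLib.Lie.Chev.chevRel C K).isSimpleGroup (CfsgLib.Lie.Chev.chevRel_injective C K) hc hp
  have hcen : Subgroup.center ↥(chevE6.group K) = ⊥ := by
    rw [(CfsgLib.Lie.Chev.chevRel C K).center_eq_ker hc,
      (MonoidHom.ker_eq_bot_iff _).2 (CfsgLib.Lie.Chev.chevRel_injective C K)]
  have hZ : Subgroup.center (chevE6.SteinbergGroup K) = (CfsgLib.Lie.Chev.stTheta C K).ker :=
    CfsgLib.Lie.Chev.center_stGroup C K CfsgLib.Lie.Chev.witE6 hc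
  have hθ := CfsgLib.Lie.Chev.stTheta_surjective C K
  obtain ⟨θ, hθdef⟩ : ∃ θ, θ = CfsgLib.Lie.Chev.stTheta C K := ⟨_, rfl⟩
  rw [← hθdef] at hZ hθ
  obtain ⟨ρ, hρdef⟩ : ∃ ρ, ρ = (univEquiv K).toMonoidHom.comp (rho K) := ⟨_, rfl⟩
  have hρ : Function.Surjective ρ := by
    intro g
    have h1 : ((univEquiv K).symm g : GL (Fin 27) K) ∈ img27 K := by
      rw [← iso_eq_img27 hσ0 hσ1]; exact ((univEquiv K).symm g).2
    obtain ⟨x, hx⟩ := h1
    exact ⟨x, by
      rw [hρdef, MonoidHom.comp_apply, show rho K x = (univEquiv K).symm g from Subtype.ext hx]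
      exact (univEquiv K).apply_symm_apply g⟩
  have hker : ρ.ker ≤ θ.ker := by
    have hn : (ρ.ker.map θ).Normal := Subgroup.Normal.map inferInstance θ hθ
    rcases hsimple.eq_bot_or_eq_top_of_normal _ hn with h | h
    · intro x hx
      rw [MonoidHom.mem_ker, ← Subgroup.mem_bot, ← h]
      exact ⟨x, hx, rfl⟩
    · refine absurd ?_ (not_comm_root (K := K))
      have hcomm : ∀ a b : ↥(E6univ K), a * b = b * a := by
        intro a b
        obtain ⟨x, rfl⟩ := hρ a
        obtain ⟨n, hn', hnx⟩ := (show θ x ∈ ρ.ker.map θ from h ▸ Subgroup.mem_top _)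
        have hz : n⁻¹ * x ∈ Subgroup.center (chevE6.SteinbergGroup K) := by
          rw [hZ, MonoidHom.mem_ker, map_mul, map_inv, hnx, inv_mul_cancel]
        have e : ρ x = ρ (n⁻¹ * x) := by
          rw [map_mul, map_inv, MonoidHom.mem_ker.1 hn', inv_one, one_mul]
        obtain ⟨y, rfl⟩ := hρ b
        rw [e, ← map_mul, ← map_mul, Subgroup.mem_center_iff.1 hz y]
      have := congrArg (fun g => ((univEquiv K).symm g : GL (Fin 27) K))
        (hcomm (univEquiv K (xI K 0 1)) (univEquiv K (xI K (opp 0) 1)))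
      simpa [xI] using this
  obtain ⟨f, hfdef⟩ : ∃ f, f = (QuotientGroup.mk' (Subgroup.center ↥(E6univ K))).comp ρ := ⟨_, rfl⟩
  have hf : Function.Surjective f := hfdef ▸ (QuotientGroup.mk'_surjective _).comp hρ
  have hfk : f.ker = θ.ker := by
    ext x
    rw [hfdef, MonoidHom.mem_ker, MonoidHom.comp_apply, QuotientGroup.mk'_apply, QuotientGroup.eq_one_iff]
    constructor
    · intro hx
      rw [MonoidHom.mem_ker, ← Subgroup.mem_bot, ← hcen, Subgroup.mem_center_iff]
      intro b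
      obtain ⟨y, rfl⟩ := hθ b
      have h1 : (y * x) * (x * y)⁻¹ ∈ ρ.ker := by
        rw [MonoidHom.mem_ker, map_mul, map_inv, map_mul, map_mul, ← Subgroup.mem_center_iff.1 hx (ρ y),
          mul_inv_cancel]
      have h2 := hker h1
      rwa [MonoidHom.mem_ker, map_mul, map_inv, mul_inv_eq_one, map_mul, map_mul] at h2
    · intro hx
      rw [← hZ] at hx
      rw [Subgroup.mem_center_iff]
      intro b
      obtain ⟨y, rfl⟩ := hρ b
      rw [← map_mul, ← map_mul, Subgroup.mem_center_iff.1 hx y]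
  exact ⟨((QuotientGroup.quotientKerEquivOfSurjective f hf).symm.trans (QuotientGroup.quotientMulEquivOfEq hfk)).trans
    (QuotientGroup.quotientKerEquivOfSurjective θ hθ)⟩

end CfsgLib.Lie.CubicForm
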