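import Cfsg.Agent.Lib.Lie.CubicForm.Checks

/-!
# The representation of Steinberg's group of type E6 on the 27 coordinates
-/

set_option autoImplicit false

namespace CfsgLib.Lie.CubicForm

open CfsgLib.Known.G2Oct (Ent ev ev1 pmul pscale eqChk colsLt)
open Cfsg.Lie (chevE6)
open scoped Matrix MatrixGroups

variable {K : Type*} [Field K]

/-- The matrix of a root. -/
def am (K : Type*) [Field K] (r : ℕ) : Matrix (Fin 27) (Fin 27) K := ev 27 (eL r) 1

/-- The value of a term. -/
def tval (t : K) (v : ℕ → K) (e : ℕ × Mono) : K :=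
  (e.2.1 : K) * t ^ e.1 * (v e.2.2.1 * v e.2.2.2.1 * v e.2.2.2.2)

theorem sameTerm_val {e f : ℕ × Mono} (h : sameTerm e f = true) (t : K) (v : ℕ → K) :
    tval t v f = (f.2.1 : K) * (t ^ e.1 * (v e.2.2.1 * v e.2.2.2.1 * v e.2.2.2.2)) := by
  obtain ⟨m, c, a, b, d⟩ := e
  obtain ⟨n, c', x, y, z⟩ := f
  simp only [sameTerm, Bool.and_eq_true, Bool.or_eq_true, beq_iff_eq] at h
  obtain ⟨rfl, ((((h | h) | h) | h) | h) | h⟩ := h <;> obtain ⟨⟨rfl, rfl⟩, rfl⟩ := h <;>
    simp only [tval] <;> ring

theorem sum_filter_split {α : Type*} (p : α → Bool) (f : α → K) (L : List α) :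
    (L.map f).sum = ((L.filter p).map f).sum + ((L.filter fun x => !p x).map f).sum := by
  induction L with
  | nil => simp
  | cons a L ih => cases h : p a <;> simp [h, ih] <;> ring

theorem termChk_zero (t : K) (v : ℕ → K) : ∀ (k : ℕ) (L : List (ℕ × Mono)), termChk k L = true →
    (L.map (tval t v)).sum = 0
  | _, [], _ => by simp
  | 0, _ :: _, h => by simp [termChk] at h
  | k + 1, e :: L, h => by
    simp only [termChk, Bool.and_eq_true, beq_iff_eq] at h
    rw [List.map_cons, List.sum_cons, sum_filter_split (sameTerm e), termChk_zero t v k _ h.2, add_zero]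
    have : ((L.filter (sameTerm e)).map (tval t v)).sum =
        ((((L.filter (sameTerm e)).map fun f => f.2.1).sum : ℤ) : K) *
          (t ^ e.1 * (v e.2.2.1 * v e.2.2.2.1 * v e.2.2.2.2)) := by
      rw [Int.cast_list_sum, ← List.sum_map_mul_right, List.map_map]
      refine congrArg List.sum (List.map_congr_left fun f hf => ?_)
      exact sameTerm_val (List.mem_filter.1 hf).2 t v
    rw [this, tval, mul_assoc, ← add_mul, ← Int.cast_add, h.1]
    simp

/-- The value of a row of a list of entries at a vector. -/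
def rowVal (L : List Ent) (v : ℕ → K) (i : ℕ) : K :=
  ((L.filter fun e => e.2.1 == i).map fun e => (e.2.2.2 : K) * v e.2.2.1).sum

theorem ev_mulVec (L : List Ent) (hL : colsLt 27 L = true) (v : Fin 27 → K) (i : Fin 27) :
    (ev 27 L (1 : K) *ᵥ v) i = rowVal L (vx v) i := by
  induction L with
  | nil => simp [rowVal, CfsgLib.Known.G2Oct.ev_nil]
  | cons e L ih =>
    simp only [colsLt, List.all_cons, Bool.and_eq_true, Nat.blt_eq] at hL
    rw [CfsgLib.Known.G2Oct.ev_cons, Matrix.add_mulVec, Pi.add_apply, ih hL.2]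
    have h1 : (ev1 27 e (1 : K) *ᵥ v) i = if e.2.1 = (i : ℕ) then (e.2.2.2 : K) * vx v e.2.2.1 else 0 := by
      show dotProduct _ v = _
      rw [dotProduct, Finset.sum_eq_single (⟨e.2.2.1, hL.1⟩ : Fin 27)]
      · rw [← vx_val v ⟨e.2.2.1, hL.1⟩]
        by_cases hi : e.2.1 = (i : ℕ) <;> simp [ev1, CfsgLib.Known.G2Oct.Ent.hit, hi]
      · intro j _ hj
        have hne : ¬ e.hit i j := fun h => hj (Fin.ext h.2.symm)
        simp [ev1, hne]
      · simp
    rw [h1]
    by_cases hi : e.2.1 = (i : ℕ) <;> simp [rowVal, hi]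

theorem vx_am (r : ℕ) (hr : colsLt 27 (eL r) = true) (v : Fin 27 → K) (i : ℕ) (hi : i < 27) :
    vx (am K r *ᵥ v) i = rowVal (eL r) (vx v) i := by
  rw [show i = ((⟨i, hi⟩ : Fin 27) : ℕ) from rfl, vx_val, am, ev_mulVec _ hr]

theorem img_sum (L : List Ent) (t : K) (v : ℕ → K) (i : ℕ) :
    ((img L i).map fun p => (p.2.1 : K) * t ^ p.1 * v p.2.2).sum = v i + t * rowVal L v i := by
  rw [img, List.map_cons, List.sum_cons, List.map_map, rowVal, ← List.sum_map_mul_left]
  simp [Function.comp_def, mul_comm, mul_left_comm]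

theorem expand1_sum (L : List Ent) (t : K) (v : ℕ → K) (m : Mono) :
    ((expand1 L m).map (tval t v)).sum = (m.1 : K) * ((v m.2.1 + t * rowVal L v m.2.1) *
      (v m.2.2.1 + t * rowVal L v m.2.2.1) * (v m.2.2.2 + t * rowVal L v m.2.2.2)) := by
  obtain ⟨c, a, b, d⟩ := m
  simp only [expand1, ← img_sum]
  induction img L a with
  | nil => simp
  | cons p A iha =>
    rw [List.flatMap_cons, List.map_append, List.sum_append, iha, List.map_cons, List.sum_cons, add_mul, add_mul,
      mul_add (c : K)]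
    congr 1
    induction img L b with
    | nil => simp
    | cons q B ihb =>
      rw [List.flatMap_cons, List.map_append, List.sum_append, ihb, List.map_cons, List.sum_cons, mul_add, add_mul,
        mul_add (c : K)]
      congr 1
      induction img L d with
      | nil => simp
      | cons s D ihd =>
        simp only [List.map_cons, List.sum_cons] at ihd ⊢
        rw [ihd]
        simp only [tval]
        push_cast
        ring

theorem cval_am {r : ℕ} (h : chkInv r = true) (h' : colsLt 27 (eL r) = true) (t : K) (v : Fin 27 → K) :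
    cval mons (vx ((1 + t • am K r) *ᵥ v)) = cval mons (vx v) := by
  simp only [chkInv, Bool.and_eq_true, List.all_eq_true, Nat.blt_eq] at h
  have h1 := termChk_zero t (vx v) _ _ h.1
  rw [List.map_append, List.sum_append, List.map_flatMap, List.flatMap_def, List.sum_flatten, List.map_map] at h1
  have h2 : ((mons.map fun m => (0, (-m.1, m.2))).map (tval t (vx v))).sum = -cval mons (vx v) := by
    rw [cval, tsum]
    generalize mons = M
    induction M with
    | nil => simp
    | cons m M ih =>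
      simp only [List.map_cons, List.sum_cons, ih, tval]
      push_cast
      ring
  rw [h2] at h1
  have h3 : cval mons (vx ((1 + t • am K r) *ᵥ v)) =
      (mons.map fun m => ((expand1 (eL r) m).map (tval t (vx v))).sum).sum := by
    rw [cval, tsum]
    refine congrArg List.sum (List.map_congr_left fun m hm => ?_)
    rw [expand1_sum, Matrix.add_mulVec, Matrix.one_mulVec, Matrix.smul_mulVec]
    simp only [vx_add, vx_smul]
    rw [vx_am r h' v _ (h.2 m hm).1.1, vx_am r h' v _ (h.2 m hm).1.2, vx_am r h' v _ (h.2 m hm).2]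
  rw [h3]
  simp only [Function.comp_def] at h1
  linear_combination h1

theorem root_facts {r : ℕ} (hr : r < 72) : chkRoot r = true ∧ chkInv r = true := by
  have h := chkRep_true
  simp only [chkRep, List.all_eq_true, Bool.and_eq_true, List.mem_range] at h
  exact (h r hr).1

theorem rel_facts {r s : ℕ} (hr : r < 72) (hs : s < 72) : chkRel r s = true := by
  have h := chkRep_true
  simp only [chkRep, List.all_eq_true, Bool.and_eq_true, List.mem_range] at h
  exact (h r hr).2 s hs

theorem am_oob {r : ℕ} (hr : ¬ r < 72) : am K r = 0 := by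
  rw [am, eL, List.getD_eq_default _ _ (by rw [show eTab.length = 72 from rfl]; omega)]
  rfl

theorem eL_cols (r : ℕ) : colsLt 27 (eL r) = true := by
  by_cases hr : r < 72
  · have h := (root_facts hr).1
    simp only [chkRoot, Bool.and_eq_true] at h
    exact h.1.1.1.1.1.1.1
  · rw [eL, List.getD_eq_default _ _ (by rw [show eTab.length = 72 from rfl]; omega)]; rfl

theorem am_sq (r : ℕ) : am K r * am K r = 0 := by
  by_cases hr : r < 72
  · have h := (root_facts hr).1
    simp only [chkRoot, Bool.and_eq_true] at h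
    rw [am, ← CfsgLib.Known.G2Oct.ev_pmul 27 _ _ (eL_cols r), CfsgLib.Known.G2Oct.ev_eq 27 h.1.1.1.1.1.1.2]
    rfl
  · simp [am_oob hr]

theorem am_triple {r : ℕ} (hr : r < 72) :
    am K r * am K (opp r) * am K r = am K r ∧ am K (opp r) * am K r * am K (opp r) = am K (opp r) := by
  have h := (root_facts hr).1
  simp only [chkRoot, Bool.and_eq_true] at h
  obtain ⟨⟨⟨⟨⟨⟨⟨_, _⟩, h1⟩, h2⟩, c1⟩, c2⟩, _⟩, _⟩ := h
  constructor
  · rw [am, am, ← CfsgLib.Known.G2Oct.ev_pmul 27 _ _ (eL_cols _), ← CfsgLib.Known.G2Oct.ev_pmul 27 _ _ c1]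
    exact CfsgLib.Known.G2Oct.ev_eq 27 h1 _
  · rw [am, am, ← CfsgLib.Known.G2Oct.ev_pmul 27 _ _ (eL_cols _), ← CfsgLib.Known.G2Oct.ev_pmul 27 _ _ c2]
    exact CfsgLib.Known.G2Oct.ev_eq 27 h2 _

theorem cval_invariant (r : ℕ) (t : K) (v : Fin 27 → K) :
    cval mons (vx ((1 + t • am K r) *ᵥ v)) = cval mons (vx v) := by
  by_cases hr : r < 72
  · exact cval_am (root_facts hr).2 (eL_cols r) t v
  · simp [am_oob hr]

/-- The root element as an invertible matrix. -/
def xU (K : Type*) [Field K] (r : ℕ) (t : K) : GL (Fin 27) K where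
  val := 1 + t • am K r
  inv := 1 + (-t) • am K r
  val_inv := by simp only [add_mul, mul_add, one_mul, mul_one, smul_mul_smul_comm, am_sq, smul_zero]; module
  inv_val := by simp only [add_mul, mul_add, one_mul, mul_one, smul_mul_smul_comm, am_sq, smul_zero]; module

theorem xU_val (r : ℕ) (t : K) : ((xU K r t : GL (Fin 27) K) : Matrix (Fin 27) (Fin 27) K) = 1 + t • am K r := rfl

theorem xU_mem (r : ℕ) (t : K) : xU K r t ∈ iso K 27 mons := fun v => cval_invariant r t v

theorem xU_add (r : ℕ) (t u : K) : xU K r t * xU K r u = xU K r (t + u) := by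
  refine Units.ext ?_
  simp only [Units.val_mul, xU_val, add_mul, mul_add, one_mul, mul_one, smul_mul_smul_comm, am_sq, smul_zero]
  module

theorem xU_oob {r : ℕ} (hr : ¬ r < 72) (t : K) : xU K r t = 1 := Units.ext (by simp [xU_val, am_oob hr])

theorem xU_comm {r s : ℕ} (hr : r < 72) (hs : s < 72) (h1 : s ≠ r) (h2 : s ≠ opp r) (t u : K) :
    xU K s u * xU K r t =
      xU K r t * xU K s u * ((chevE6.commWord K r s t u).map fun p => xU K p.1 p.2).prod := by
  have h := rel_facts hr hs
  rw [chkRel, if_neg (by tauto)] at h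
  unfold Cfsg.Lie.ChevalleyDatum.commWord
  split at h
  · next e =>
    rw [e]
    simp only [List.map_nil, List.prod_nil, mul_one]
    refine Units.ext ?_
    have hc : am K r * am K s = am K s * am K r := by
      rw [am, am, ← CfsgLib.Known.G2Oct.ev_pmul 27 _ _ (eL_cols r), ← CfsgLib.Known.G2Oct.ev_pmul 27 _ _ (eL_cols s)]
      exact CfsgLib.Known.G2Oct.ev_eq 27 h _
    simp only [Units.val_mul, xU_val, add_mul, mul_add, one_mul, mul_one, smul_mul_smul_comm, hc]
    rw [mul_comm u t]
    abel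
  · next k c e =>
    rw [e]
    simp only [Bool.and_eq_true] at h
    obtain ⟨⟨h3, h4⟩, h5⟩ := h
    have hc : am K r * am K s = am K s * am K r + (c : K) • am K k := by
      simp only [am, ← CfsgLib.Known.G2Oct.ev_pmul 27 _ _ (eL_cols r), ← CfsgLib.Known.G2Oct.ev_pmul 27 _ _ (eL_cols s),
        CfsgLib.Known.G2Oct.ev_eq 27 h3, CfsgLib.Known.G2Oct.ev_append, CfsgLib.Known.G2Oct.ev_pscale, pow_zero,
        mul_one]
    have hrk : am K r * am K k = 0 := by
      rw [am, am, ← CfsgLib.Known.G2Oct.ev_pmul 27 _ _ (eL_cols r), CfsgLib.Known.G2Oct.ev_eq 27 h4]; rfl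
    have hsk : am K s * am K k = 0 := by
      rw [am, am, ← CfsgLib.Known.G2Oct.ev_pmul 27 _ _ (eL_cols s), CfsgLib.Known.G2Oct.ev_eq 27 h5]; rfl
    have hrsk : am K r * am K s * am K k = 0 := by rw [mul_assoc, hsk, mul_zero]
    simp only [List.map_cons, List.map_nil, List.prod_cons, List.prod_nil, mul_one, pow_one]
    refine Units.ext ?_
    simp only [Units.val_mul, xU_val, add_mul, mul_add, one_mul, mul_one, smul_mul_smul_comm, hrk, hsk, hrsk,
      smul_zero]
    rw [hc]
    module
  · exact absurd h (by simp)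

/-- The root element in the isometry group. -/
def xI (K : Type*) [Field K] (r : ℕ) (t : K) : ↥(iso K 27 mons) := ⟨xU K r t, xU_mem r t⟩

theorem nval {r : ℕ} (hr : r < 72) (t : K) (ht : t ≠ 0) :
    ((xU K r t * xU K (opp r) (-t⁻¹) * xU K r t : GL (Fin 27) K) : Matrix (Fin 27) (Fin 27) K) =
      1 - am K r * am K (opp r) - am K (opp r) * am K r + t • am K r - t⁻¹ • am K (opp r) := by
  simp only [Units.val_mul, xU_val, add_mul, mul_add, one_mul, mul_one, smul_mul_smul_comm,
    (am_triple hr).1, am_sq, smul_zero]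
  match_scalars <;> field_simp <;> ring

/-- The torus element. -/
def hU (K : Type*) [Field K] (r : ℕ) (t : K) : GL (Fin 27) K :=
  xU K r t * xU K (opp r) (-t⁻¹) * xU K r t * (xU K r (-1) * xU K (opp r) 1 * xU K r (-1))

theorem hval {r : ℕ} (hr : r < 72) (t : K) (ht : t ≠ 0) :
    ((hU K r t : GL (Fin 27) K) : Matrix (Fin 27) (Fin 27) K) =
      1 - am K r * am K (opp r) - am K (opp r) * am K r + t • (am K r * am K (opp r)) +
        t⁻¹ • (am K (opp r) * am K r) := by
  have h1 := nval (K := K) hr t ht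
  have h2 := nval (K := K) hr (-1) (by norm_num)
  rw [show -(-1 : K)⁻¹ = 1 from by norm_num] at h2
  rw [hU, Units.val_mul, h1, h2, inv_neg, inv_one]
  obtain ⟨a1, b1⟩ := am_triple (K := K) hr
  have a0 := am_sq (K := K) r
  have b0 := am_sq (K := K) (opp r)
  obtain ⟨A, hA⟩ : ∃ A, A = am K r := ⟨_, rfl⟩
  obtain ⟨B, hB⟩ : ∃ B, B = am K (opp r) := ⟨_, rfl⟩
  rw [← hA, ← hB] at a1 b1 ⊢
  rw [← hA] at a0
  rw [← hB] at b0
  have a2 : ∀ X, A * (A * X) = 0 := fun X => by rw [← mul_assoc, a0, zero_mul]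
  have b2 : ∀ X, B * (B * X) = 0 := fun X => by rw [← mul_assoc, b0, zero_mul]
  have a3 : A * (B * A) = A := by rw [← mul_assoc, a1]
  have b3 : B * (A * B) = B := by rw [← mul_assoc, b1]
  simp only [add_mul, mul_add, sub_mul, mul_sub, one_mul, mul_one, smul_mul_assoc, mul_smul_comm,
    mul_assoc, a0, b0, a2, b2, a3, b3, smul_zero, mul_zero]
  module

theorem hU_mul {r : ℕ} (hr : r < 72) {a b : K} (ha : a ≠ 0) (hb : b ≠ 0) :
    hU K r a * hU K r b = hU K r (a * b) := by
  refine Units.ext ?_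
  rw [Units.val_mul, hval hr a ha, hval hr b hb, hval hr _ (mul_ne_zero ha hb)]
  obtain ⟨a1, b1⟩ := am_triple (K := K) hr
  have a0 := am_sq (K := K) r
  have b0 := am_sq (K := K) (opp r)
  obtain ⟨A, hA⟩ : ∃ A, A = am K r := ⟨_, rfl⟩
  obtain ⟨B, hB⟩ : ∃ B, B = am K (opp r) := ⟨_, rfl⟩
  rw [← hA, ← hB] at a1 b1 ⊢
  rw [← hA] at a0
  rw [← hB] at b0
  have a2 : ∀ X, A * (A * X) = 0 := fun X => by rw [← mul_assoc, a0, zero_mul]
  have b2 : ∀ X, B * (B * X) = 0 := fun X => by rw [← mul_assoc, b0, zero_mul]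
  have a3 : A * (B * A) = A := by rw [← mul_assoc, a1]
  have b3 : B * (A * B) = B := by rw [← mul_assoc, b1]
  simp only [add_mul, mul_add, sub_mul, mul_sub, one_mul, mul_one, smul_mul_assoc, mul_smul_comm,
    mul_assoc, a2, b2, a3, b3, smul_zero, mul_zero, mul_inv]
  module

theorem lift_stX (r : ℕ) (t : K) :
    FreeGroup.lift (fun p : Fin chevE6.nroots × K => xI K p.1 p.2) (chevE6.stX r t) = xI K r t := by
  unfold Cfsg.Lie.ChevalleyDatum.stX
  split_ifs with h
  · exact FreeGroup.lift_apply_of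
  · rw [map_one]
    exact Subtype.ext (xU_oob (fun e => h (by simpa [show chevE6.nroots = 72 by decide +kernel] using e)) t).symm

theorem lift_stWord (w : List (ℕ × K)) :
    FreeGroup.lift (fun p : Fin chevE6.nroots × K => xI K p.1 p.2) (chevE6.stWord w) =
      (w.map fun p => xI K p.1 p.2).prod := by
  rw [Cfsg.Lie.ChevalleyDatum.stWord, map_list_prod, List.map_map]
  exact congrArg List.prod (List.map_congr_left fun p _ => lift_stX p.1 p.2)

theorem rels_lift : ∀ g ∈ chevE6.steinbergRels K,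
    FreeGroup.lift (fun p : Fin chevE6.nroots × K => xI K p.1 p.2) g = 1 := by
  have hn : chevE6.nroots = 72 := by decide +kernel
  rintro g ((⟨r, t, u, hr, rfl⟩ | ⟨r, s, t, u, hr, hs, h1, h2, rfl⟩) | ⟨r, t, u, hr, ht, hu, rfl⟩)
  · simp only [map_mul, map_inv, lift_stX, mul_inv_eq_one]
    exact Subtype.ext (xU_add r t u)
  · simp only [map_mul, map_inv, lift_stX, lift_stWord, mul_inv_eq_one]
    have h : xI K s u * xI K r t =
        xI K r t * xI K s u * ((chevE6.commWord K r s t u).map fun p => xI K p.1 p.2).prod := by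
      refine Subtype.ext ?_
      rw [Subgroup.coe_mul, Subgroup.coe_mul, Subgroup.coe_mul, Subgroup.val_list_prod, List.map_map]
      exact xU_comm (hn ▸ hr) (hn ▸ hs) h1 h2 t u
    rw [mul_assoc _ (xI K s u), h]; group
  · have e : ∀ a : K, FreeGroup.lift (fun p : Fin chevE6.nroots × K => xI K p.1 p.2) (chevE6.stH r a) =
        ⟨hU K r a, by
          rw [hU]
          exact mul_mem (mul_mem (mul_mem (xU_mem _ _) (xU_mem _ _)) (xU_mem _ _))
            (mul_mem (mul_mem (xU_mem _ _) (xU_mem _ _)) (xU_mem _ _))⟩ := fun a => by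
      refine Subtype.ext ?_
      rw [Cfsg.Lie.ChevalleyDatum.stH, lift_stWord]
      simp [Cfsg.Lie.ChevalleyDatum.hWord, Cfsg.Lie.ChevalleyDatum.nWord, hU, opp, xI, mul_assoc]
    simp only [map_mul, map_inv, e, mul_inv_eq_one]
    exact Subtype.ext (hU_mul (hn ▸ hr) ht hu)

/-- Steinberg's group of type E6 acting on the 27 coordinates. -/
def rho (K : Type*) [Field K] : chevE6.SteinbergGroup K →* ↥(iso K 27 mons) :=
  PresentedGroup.toGroup rels_lift

theorem rho_gen (r : ℕ) (t : K) : rho K (chevE6.stGen K r t) = xI K r t := by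
  rw [← lift_stX r t]
  rfl

/-- The image. -/
def img27 (K : Type*) [Field K] : Subgroup (GL (Fin 27) K) := ((iso K 27 mons).subtype.comp (rho K)).range

theorem xU_mem_img27 (r : ℕ) (t : K) : xU K r t ∈ img27 K :=
  ⟨chevE6.stGen K r t, by rw [MonoidHom.comp_apply, rho_gen]; rfl⟩

end CfsgLib.Lie.CubicForm
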