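import Cfsg.Agent.Lib.Lie.CubicForm.Rep

/-!
# The isometries of the cubic form are products of root elements

The columns of an isometry are moved to the standard ones one after the other. In each step the new column
satisfies linear and quadratic conditions coming from the polar forms at the columns that are already fixed.
-/

set_option autoImplicit false

namespace CfsgLib.Lie.CubicForm

open CfsgLib.Known.G2Oct (Ent ev pmul pscale eqChk colsLt idL)
open scoped Matrix MatrixGroups

/-- A sign. -/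
def isSign (k : ℤ) : Bool := k == 1 || k == -1

/-- The pairing of two coordinates is one monomial. -/
def single (a b d : ℕ) : Bool :=
  match coPair mons a b with
  | [(k, x, y, z)] => isSign k && x == a && y == b && z == d
  | _ => false

/-- No entry has its column among the given coordinates. -/
def fixS (S : List ℕ) (L : List Ent) : Bool := L.all fun e => !(S.contains e.2.2.1)

/-- A root and its opposite fix the given coordinates. -/
def pairFix (S : List ℕ) (r : ℕ) : Bool := Nat.blt r 72 && fixS S (eL r) && fixS S (eL (opp r))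

/-- The monomial element of a root as a list. -/
def nL (r : ℕ) : List Ent :=
  idL 27 ++ pscale 0 (-1) (pmul (eL r) (eL (opp r)) ++ pmul (eL (opp r)) (eL r)) ++ eL r ++
    pscale 0 (-1) (eL (opp r))

/-- The entries in one row. -/
def rowL (L : List Ent) (i : ℕ) : List Ent := L.filter fun e => e.2.1 == i

/-- A path of monomial elements leading to the target. -/
def movePath (S : List ℕ) (c : ℕ) : ℕ → List (ℕ × ℕ) → Bool
  | cur, [] => cur == c
  | cur, (r, x) :: rest => pairFix S r && colsLt 27 (nL r) && Nat.blt x 27 && Nat.blt cur 27 &&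
      (eqChk (rowL (nL r) x) [(0, x, cur, 1)] || eqChk (rowL (nL r) x) [(0, x, cur, -1)]) &&
      movePath S c x rest

/-- The coordinates forced to vanish. -/
def zeros (st : Step) : List ℕ := st.zp.map (·.1) ++ st.zn.map (·.1)

/-- The check of the forced zeros. -/
def chkZero (S : List ℕ) (st : Step) : Bool :=
  (st.zp.all fun z => z.1 != st.tgt && S.contains z.2.1 && S.contains z.2.2 && single z.2.1 z.2.2 z.1) &&
    st.zn.all fun z => S.contains z.2 && (coPair mons z.2 st.tgt).isEmpty &&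
      (List.range 27).any fun b => single z.2 b z.1

/-- A coordinate that is moved. -/
def covered (st : Step) (i : ℕ) : Bool := (zeros st).contains i || (st.moves.map (·.1)).contains i

/-- The check of the normalisation of the target coordinate. -/
def chkTarget (S : List ℕ) (st : Step) : Bool :=
  match st.forced with
  | [(a, b)] => S.contains a && S.contains b && single a b st.tgt
  | _ :: _ :: _ => false
  | [] =>
    (match st.wit with
      | [] => (List.range 27).all (covered st)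
      | a :: _ => S.contains a && ((List.range 27).any fun e => single a st.tgt e) &&
          (coFirst mons a).all fun m => covered st m.2.2.1) &&
    (st.moves.all fun m => movePath S st.tgt m.1 m.2) && pairFix S st.scale &&
      eqChk (rowL (pmul (eL st.scale) (eL (opp st.scale))) st.tgt) [(0, st.tgt, st.tgt, 1)] &&
      eqChk (rowL (pmul (eL (opp st.scale)) (eL st.scale)) st.tgt) []

/-- The check of the quadratic conditions and of the final covering. -/
def chkQuad (c : ℕ) : List ℕ → List (ℕ × ℕ) → Bool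
  | zero, [] => (List.range 27).all fun i => i == c || zero.contains i
  | zero, (d, f) :: rest => d != c && Nat.blt f 27 &&
      (match (coLast mons f).filter fun m => !(zero.contains m.2.1 || zero.contains m.2.2.1) with
        | [(k, a, b, z)] => isSign k && z == f && ((a == c && b == d) || (a == d && b == c))
        | _ => false) &&
      chkQuad c (d :: zero) rest

/-- The check of the clearing. -/
def chkClear (S : List ℕ) (st : Step) : List ℕ → List (ℕ × ℕ) → Bool
  | cl, [] => chkQuad st.tgt (zeros st ++ cl) st.quad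
  | cl, (r, b) :: rest => fixS S (eL r) && Nat.blt b 27 &&
      ((st.tgt :: cl).all fun i => (rowL (eL r) i).all fun e => (zeros st ++ cl).contains e.2.2.1) &&
      (match (rowL (eL r) b).filter fun e => !((zeros st ++ cl).contains e.2.2.1) with
        | [(_, _, j, k)] => isSign k && j == st.tgt
        | _ => false) &&
      chkClear S st (b :: cl) rest

/-- The check of one step. -/
def chkStep (S : List ℕ) (st : Step) : Bool :=
  Nat.blt st.tgt 27 && (S.all fun s => Nat.blt s 27) && chkZero S st && chkTarget S st && chkClear S st [] st.clear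

/-- The check of all steps. -/
def chkSteps : List ℕ → List Step → Bool
  | S, [] => (List.range 27).all S.contains
  | S, st :: rest => chkStep S st && chkSteps (st.tgt :: S) rest

theorem chkSteps_true : chkSteps [] steps = true := by decide +kernel

theorem squareFree_mons : SquareFree mons := by
  have h : ((mons.flatMap ord3).all fun m => m.2.1 != m.2.2.1) = true := by decide +kernel
  intro m hm
  simpa using List.all_eq_true.1 h m hm

variable {K : Type*} [Field K]

/-- The standard vectors. -/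
def bv (K : Type*) [Field K] (s : ℕ) : Fin 27 → K := fun j => if (j : ℕ) = s then 1 else 0

theorem bv_eq {s : ℕ} (hs : s < 27) : bv K s = Pi.single (⟨s, hs⟩ : Fin 27) (1 : K) := by
  funext j; simp [bv, Pi.single_apply, Fin.ext_iff]

theorem vx_bv {s : ℕ} (hs : s < 27) (i : ℕ) : vx (bv K s) i = if i = s then 1 else 0 := by
  rw [bv_eq hs, vx_single]

theorem isSign_ne {k : ℤ} (h : isSign k = true) : (k : K) ≠ 0 ∧ (k : K) * k = 1 := by
  simp only [isSign, Bool.or_eq_true, beq_iff_eq] at h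
  rcases h with rfl | rfl <;> simp

/-- The group element fixes the given standard vectors and preserves the form. -/
def Good (S : List ℕ) (g : GL (Fin 27) K) : Prop :=
  g ∈ iso K 27 mons ∧ ∀ s ∈ S, (g : Matrix (Fin 27) (Fin 27) K) *ᵥ bv K s = bv K s

/-- One column, read at natural numbers. -/
def colv (g : GL (Fin 27) K) (c : ℕ) : ℕ → K := vx ((g : Matrix (Fin 27) (Fin 27) K) *ᵥ bv K c)

theorem img27_le : img27 K ≤ iso K 27 mons := by
  rintro _ ⟨x, rfl⟩
  exact (rho K x).2

theorem good_mul {S : List ℕ} {m g : GL (Fin 27) K} (hm : m ∈ img27 K)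
    (hf : ∀ s ∈ S, (m : Matrix (Fin 27) (Fin 27) K) *ᵥ bv K s = bv K s) (hg : Good S g) : Good S (m * g) :=
  ⟨mul_mem (img27_le hm) hg.1, fun s hs => by rw [Units.val_mul, ← Matrix.mulVec_mulVec, hg.2 s hs, hf s hs]⟩

theorem colv_mul (m g : GL (Fin 27) K) (c : ℕ) :
    colv (m * g) c = vx ((m : Matrix (Fin 27) (Fin 27) K) *ᵥ ((g : Matrix (Fin 27) (Fin 27) K) *ᵥ bv K c)) := by
  rw [colv, Units.val_mul, Matrix.mulVec_mulVec]

theorem xU_fix {S : List ℕ} {r : ℕ} (h : fixS S (eL r) = true) (hS : ∀ s ∈ S, s < 27) (t : K) :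
    ∀ s ∈ S, ((xU K r t : GL (Fin 27) K) : Matrix (Fin 27) (Fin 27) K) *ᵥ bv K s = bv K s := by
  intro s hs
  have h0 : am K r *ᵥ bv K s = 0 := by
    funext i
    rw [am, ev_mulVec _ (eL_cols r), Pi.zero_apply, rowVal]
    refine List.sum_eq_zero fun x hx => ?_
    obtain ⟨e, he, rfl⟩ := List.mem_map.1 hx
    simp only [fixS, List.all_eq_true, Bool.not_eq_true', List.contains_eq_mem, decide_eq_false_iff_not] at h
    rw [vx_bv (hS s hs), if_neg fun e' => h e (List.mem_filter.1 he).1 (by rw [e']; exact hs), mul_zero]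
  rw [xU_val, Matrix.add_mulVec, Matrix.one_mulVec, Matrix.smul_mulVec, h0, smul_zero, add_zero]

theorem mul_fix {S : List ℕ} {a b : GL (Fin 27) K}
    (ha : ∀ s ∈ S, (a : Matrix (Fin 27) (Fin 27) K) *ᵥ bv K s = bv K s)
    (hb : ∀ s ∈ S, (b : Matrix (Fin 27) (Fin 27) K) *ᵥ bv K s = bv K s) :
    ∀ s ∈ S, ((a * b : GL (Fin 27) K) : Matrix (Fin 27) (Fin 27) K) *ᵥ bv K s = bv K s := fun s hs => by
  rw [Units.val_mul, ← Matrix.mulVec_mulVec, hb s hs, ha s hs]

theorem vx_xU (r : ℕ) (t : K) (v : Fin 27 → K) {i : ℕ} (hi : i < 27) :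
    vx (((xU K r t : GL (Fin 27) K) : Matrix (Fin 27) (Fin 27) K) *ᵥ v) i =
      vx v i + t * rowVal (eL r) (vx v) i := by
  rw [xU_val, Matrix.add_mulVec, Matrix.one_mulVec, Matrix.smul_mulVec, vx_add, vx_smul, vx_am r (eL_cols r) v i hi]

theorem row_eq {L : List Ent} {x : ℕ} {M : List Ent} (hL : colsLt 27 L = true) (hM : colsLt 27 M = true)
    (h : eqChk (rowL L x) M = true) (hx : x < 27) (v : Fin 27 → K) :
    vx (ev 27 L (1 : K) *ᵥ v) x = rowVal M (vx v) x := by
  have hr : colsLt 27 (rowL L x) = true := by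
    simp only [colsLt, List.all_eq_true, rowL] at hL ⊢
    exact fun e he => hL e (List.mem_filter.1 he).1
  rw [show x = ((⟨x, hx⟩ : Fin 27) : ℕ) from rfl, vx_val, ev_mulVec _ hL, ← ev_mulVec _ hM,
    ← CfsgLib.Known.G2Oct.ev_eq 27 h, ev_mulVec _ hr]
  simp [rowVal, rowL, List.filter_filter]

theorem row_single {x j : ℕ} (k : ℤ) (v : ℕ → K) : rowVal [((0, x, j, k) : Ent)] v x = (k : K) * v j := by
  simp [rowVal]

theorem single_spec {a b d : ℕ} (h : single a b d = true) : ∃ k : ℤ, (k : K) ≠ 0 ∧ coPair mons a b = [(k, a, b, d)] := by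
  unfold single at h
  split at h
  · next k x y z e =>
    simp only [Bool.and_eq_true, beq_iff_eq] at h
    obtain ⟨⟨⟨h1, rfl⟩, rfl⟩, rfl⟩ := h
    exact ⟨k, (isSign_ne h1).1, e⟩
  · simp at h

section Step

variable {S : List ℕ} {g : GL (Fin 27) K} (hg : Good S g) (hS : ∀ s ∈ S, s < 27)
  {σ : K} (hσ0 : σ ≠ 0) (hσ1 : σ ≠ 1)

include hg hS hσ0 hσ1

theorem pair_value {a b d c : ℕ} (ha : a ∈ S) (hb : b ∈ S) (h : single a b d = true) (hc : c < 27) :
    colv g c d = if d = c then 1 else 0 := by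
  obtain ⟨k, hk, e⟩ := single_spec (K := K) h
  have h1 := iso_ptri mons hg.1 hσ0 hσ1 (bv K a) (bv K b) (bv K c)
  rw [hg.2 a ha, hg.2 b hb, bv_eq (hS a ha), bv_eq (hS b hb), ptri_pair_single mons _ _ _ e,
    ptri_pair_single mons _ _ _ e, vx_bv hc] at h1
  exact mul_left_cancel₀ hk h1

theorem non_adjacent {a b d c : ℕ} (ha : a ∈ S) (hc : c < 27) (hb : b < 27) (h1 : coPair mons a c = [])
    (h2 : single a b d = true) : colv g c d = 0 := by
  obtain ⟨k, hk, e⟩ := single_spec (K := K) h2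
  have h := iso_ptri mons hg.1 hσ0 hσ1 (bv K a) (bv K c)
    (((g⁻¹ : GL (Fin 27) K) : Matrix (Fin 27) (Fin 27) K) *ᵥ bv K b)
  rw [hg.2 a ha, Matrix.mulVec_mulVec, Units.mul_inv, Matrix.one_mulVec, ptri_comm, bv_eq (hS a ha), bv_eq hb,
    ptri_pair_single mons _ _ _ e, bv_eq hc, ptri_pair mons, h1, tsum_nil] at h
  rw [colv, bv_eq hc]
  exact (mul_eq_zero.1 h).resolve_left hk

theorem zeros_spec {st : Step} (hc : st.tgt < 27) (h : chkZero S st = true) :
    ∀ i ∈ zeros st, colv g st.tgt i = 0 := by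
  simp only [chkZero, Bool.and_eq_true, List.all_eq_true, List.any_eq_true, List.contains_eq_mem,
    decide_eq_true_eq, bne_iff_ne, List.isEmpty_iff, List.mem_range] at h
  intro i hi
  simp only [zeros, List.mem_append, List.mem_map] at hi
  rcases hi with ⟨z, hz, rfl⟩ | ⟨z, hz, rfl⟩
  · obtain ⟨⟨⟨hne, ha⟩, hb⟩, hs⟩ := h.1 z hz
    rw [pair_value hg hS hσ0 hσ1 ha hb hs hc, if_neg hne]
  · obtain ⟨⟨ha, he⟩, b, hb, hs⟩ := h.2 z hz
    exact non_adjacent hg hS hσ0 hσ1 ha hc hb he hs

theorem witness_spec {a e c : ℕ} (ha : a ∈ S) (hc : c < 27) (he : e < 27) (h : single a c e = true) :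
    ∃ m ∈ coFirst mons a, colv g c m.2.2.1 ≠ 0 := by
  obtain ⟨k, hk, eq⟩ := single_spec (K := K) h
  by_contra hall
  push Not at hall
  have h1 := iso_ptri mons hg.1 hσ0 hσ1 (bv K a) (bv K c) (bv K e)
  rw [hg.2 a ha, bv_eq (hS a ha), ptri_first, tsum_eq_zero _ _ _ _ fun m hm => by
    rw [← colv, hall m hm]; simp, bv_eq hc, ptri_pair_single mons _ _ _ eq, vx_bv he, if_pos rfl, mul_one] at h1
  exact hk h1.symm

theorem quad_spec {c d f : ℕ} {k : ℤ} {a b : ℕ} {zero : List ℕ} (hc : c < 27) (hf : f < 27)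
    (hz : ∀ i ∈ zero, colv g c i = 0) (h1 : colv g c c = 1) (hk : (k : K) ≠ 0)
    (hl : (coLast mons f).filter (fun m => !(zero.contains m.2.1 || zero.contains m.2.2.1)) = [(k, a, b, f)])
    (hab : (a = c ∧ b = d) ∨ (a = d ∧ b = c)) : colv g c d = 0 := by
  have h := iso_dlin mons hg.1 hσ0 hσ1 (bv K c) (((g⁻¹ : GL (Fin 27) K) : Matrix (Fin 27) (Fin 27) K) *ᵥ bv K f)
  rw [Matrix.mulVec_mulVec, Units.mul_inv, Matrix.one_mulVec, ← colv, bv_eq hc, dlin_single mons squareFree_mons,
    bv_eq hf, dlin_last, tsum_filter _ (fun m => !(zero.contains m.2.1 || zero.contains m.2.2.1)) _ _ _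
      (fun m _ hm => by
        simp only [Bool.not_eq_false', Bool.or_eq_true, List.contains_eq_mem, decide_eq_true_eq] at hm
        rcases hm with hm | hm <;> rw [hz _ hm] <;> simp), hl, tsum_cons, tsum_nil, add_zero, vx_single,
    if_pos rfl, mul_one] at h
  rcases hab with ⟨rfl, rfl⟩ | ⟨rfl, rfl⟩ <;> simpa [h1, hk] using h

end Step

theorem quad_all {S : List ℕ} {g : GL (Fin 27) K} (hg : Good S g) (hS : ∀ s ∈ S, s < 27) {σ : K} (hσ0 : σ ≠ 0)
    (hσ1 : σ ≠ 1) {c : ℕ} (hc : c < 27) (h1 : colv g c c = 1) :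
    ∀ (L : List (ℕ × ℕ)) (zero : List ℕ), chkQuad c zero L = true → (∀ i ∈ zero, colv g c i = 0) →
      (g : Matrix (Fin 27) (Fin 27) K) *ᵥ bv K c = bv K c
  | [], zero, h, hz => by
    simp only [chkQuad, List.all_eq_true, List.mem_range, Bool.or_eq_true, beq_iff_eq, List.contains_eq_mem,
      decide_eq_true_eq] at h
    funext i
    rw [← vx_val ((g : Matrix (Fin 27) (Fin 27) K) *ᵥ bv K c) i, ← vx_val (bv K c) i, vx_bv hc, ← colv]
    by_cases hi : (i : ℕ) = c
    · rw [if_pos hi, hi, h1]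
    · rw [if_neg hi, hz _ ((h i i.2).resolve_left hi)]
  | (d, f) :: rest, zero, h, hz => by
    simp only [chkQuad, Bool.and_eq_true, bne_iff_ne, Nat.blt_eq] at h
    obtain ⟨⟨⟨_, hf⟩, hm⟩, hrest⟩ := h
    refine quad_all hg hS hσ0 hσ1 hc h1 rest _ hrest ?_
    intro i hi
    rcases List.mem_cons.1 hi with rfl | hi
    · split at hm
      · next k a b z e =>
        simp only [Bool.and_eq_true, beq_iff_eq, Bool.or_eq_true] at hm
        obtain ⟨⟨hk, rfl⟩, hab⟩ := hm
        exact quad_spec hg hS hσ0 hσ1 hc hf hz h1 (isSign_ne hk).1 e hab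
      · simp at hm
    · exact hz i hi

theorem clear_all {S : List ℕ} (hS : ∀ s ∈ S, s < 27) {σ : K} (hσ0 : σ ≠ 0) (hσ1 : σ ≠ 1) {st : Step}
    (hc : st.tgt < 27) (hZ : chkZero S st = true) :
    ∀ (L : List (ℕ × ℕ)) (cl : List ℕ), chkClear S st cl L = true → ∀ g : GL (Fin 27) K, Good S g →
      colv g st.tgt st.tgt = 1 → (∀ i ∈ cl, colv g st.tgt i = 0) →
      ∃ m ∈ img27 K, Good (st.tgt :: S) (m * g)
  | [], cl, h, g, hg, h1, hcl => by
    refine ⟨1, one_mem _, ?_⟩
    rw [one_mul]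
    refine ⟨hg.1, fun s hs => ?_⟩
    rcases List.mem_cons.1 hs with rfl | hs
    · refine quad_all hg hS hσ0 hσ1 hc h1 _ _ h fun i hi => ?_
      rcases List.mem_append.1 hi with hi | hi
      · exact zeros_spec hg hS hσ0 hσ1 hc hZ i hi
      · exact hcl i hi
    · exact hg.2 s hs
  | (r, b) :: rest, cl, h, g, hg, h1, hcl => by
    simp only [chkClear, Bool.and_eq_true, Nat.blt_eq] at h
    obtain ⟨⟨⟨⟨hfix, hb⟩, hrows⟩, hm⟩, hrest⟩ := h
    have hz : ∀ i ∈ zeros st ++ cl, colv g st.tgt i = 0 := fun i hi => by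
      rcases List.mem_append.1 hi with hi | hi
      · exact zeros_spec hg hS hσ0 hσ1 hc hZ i hi
      · exact hcl i hi
    simp only [List.all_eq_true, List.contains_eq_mem, decide_eq_true_eq] at hrows
    split at hm
    · next d' x j k e =>
      simp only [Bool.and_eq_true, beq_iff_eq] at hm
      obtain ⟨hk, rfl⟩ := hm
      obtain ⟨t, ht⟩ : ∃ t : K, t = -(k : K) * colv g st.tgt b := ⟨_, rfl⟩
      have hg' := good_mul (xU_mem_img27 r t) (xU_fix hfix hS t) hg
      have hrow : ∀ i ∈ st.tgt :: cl, rowVal (eL r) (colv g st.tgt) i = 0 := fun i hi => by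
        refine List.sum_eq_zero fun y hy => ?_
        obtain ⟨e, he, rfl⟩ := List.mem_map.1 hy
        rw [hz _ (hrows i hi e he), mul_zero]
      have hkeep : ∀ i ∈ st.tgt :: cl, colv (xU K r t * g) st.tgt i = colv g st.tgt i := fun i hi => by
        by_cases hi' : i < 27
        · rw [colv_mul, vx_xU r t _ hi', ← colv, hrow i hi, mul_zero, add_zero]
        · simp [colv, vx, hi']
      have hrb : rowVal (eL r) (colv g st.tgt) b = (k : K) := by
        rw [rowVal, ← rowL, sum_filter_split (fun e => !((zeros st ++ cl).contains e.2.2.1)), e]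
        have h0 : (((rowL (eL r) b).filter fun e => !!((zeros st ++ cl).contains e.2.2.1)).map
            fun e => (e.2.2.2 : K) * colv g st.tgt e.2.2.1).sum = 0 := by
          refine List.sum_eq_zero fun y hy => ?_
          obtain ⟨e', he, rfl⟩ := List.mem_map.1 hy
          simp only [List.mem_filter, Bool.not_not, List.contains_eq_mem, decide_eq_true_eq] at he
          rw [hz _ he.2, mul_zero]
        rw [h0]
        simp [h1]
      obtain ⟨m, hm', hgood⟩ := clear_all hS hσ0 hσ1 hc hZ rest _ hrest _ hg'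
        (by rw [hkeep _ List.mem_cons_self, h1]) (fun i hi => by
          rcases List.mem_cons.1 hi with rfl | hi
          · rw [colv_mul, vx_xU r t _ hb, ← colv, hrb, ht]
            linear_combination (colv g st.tgt i) * (-1 : K) * (isSign_ne (K := K) hk).2
          · rw [hkeep _ (List.mem_cons_of_mem _ hi), hcl i hi])
      exact ⟨m * xU K r t, mul_mem hm' (xU_mem_img27 r t), by rw [mul_assoc]; exact hgood⟩
    · simp at hm

theorem nU_val {r : ℕ} (hr : r < 72) :
    ((xU K r 1 * xU K (opp r) (-1) * xU K r 1 : GL (Fin 27) K) : Matrix (Fin 27) (Fin 27) K) =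
      ev 27 (nL r) 1 := by
  have h := nval (K := K) hr 1 one_ne_zero
  rw [inv_one] at h
  rw [h]
  simp only [nL, CfsgLib.Known.G2Oct.ev_append, CfsgLib.Known.G2Oct.ev_pscale, CfsgLib.Known.G2Oct.ev_idL,
    CfsgLib.Known.G2Oct.ev_pmul 27 _ _ (eL_cols _), am, pow_zero]
  module

theorem move_all {S : List ℕ} (hS : ∀ s ∈ S, s < 27) {c : ℕ} :
    ∀ (P : List (ℕ × ℕ)) (cur : ℕ), movePath S c cur P = true → ∀ g : GL (Fin 27) K, Good S g →
      colv g c cur ≠ 0 → ∃ m ∈ img27 K, Good S (m * g) ∧ colv (m * g) c c ≠ 0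
  | [], cur, h, g, hg, hne => by
    simp only [movePath, beq_iff_eq] at h
    exact ⟨1, one_mem _, by rw [one_mul]; exact hg, by rw [one_mul]; rwa [h] at hne⟩
  | (r, x) :: rest, cur, h, g, hg, hne => by
    simp only [movePath, pairFix, Bool.and_eq_true, Bool.or_eq_true, Nat.blt_eq] at h
    obtain ⟨⟨⟨⟨⟨⟨⟨hr, hA⟩, hB⟩, hcols⟩, hx⟩, hcur⟩, hrow⟩, hrest⟩ := h
    obtain ⟨n, hn⟩ : ∃ n, n = xU K r 1 * xU K (opp r) (-1) * xU K r 1 := ⟨_, rfl⟩
    have hnI : n ∈ img27 K := hn ▸ mul_mem (mul_mem (xU_mem_img27 _ _) (xU_mem_img27 _ _)) (xU_mem_img27 _ _)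
    have hg' : Good S (n * g) :=
      good_mul hnI (hn ▸ mul_fix (mul_fix (xU_fix hA hS 1) (xU_fix hB hS (-1))) (xU_fix hA hS 1)) hg
    have hne' : colv (n * g) c x ≠ 0 := by
      rw [colv_mul, hn, nU_val hr]
      rcases hrow with e | e <;>
        rw [row_eq hcols (by simp [colsLt, hcur]) e hx, row_single, ← colv] <;> simpa using hne
    obtain ⟨m, hm, h1, h2⟩ := move_all hS rest x hrest (n * g) hg' hne'
    exact ⟨m * n, mul_mem hm hnI, by rw [mul_assoc]; exact h1, by rw [mul_assoc]; exact h2⟩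

theorem scale_target {S : List ℕ} (hS : ∀ s ∈ S, s < 27) {c r : ℕ} (hc : c < 27) (hp : pairFix S r = true)
    (h1 : eqChk (rowL (pmul (eL r) (eL (opp r))) c) [(0, c, c, 1)] = true)
    (h2 : eqChk (rowL (pmul (eL (opp r)) (eL r)) c) [] = true) (g : GL (Fin 27) K) (hg : Good S g)
    (hne : colv g c c ≠ 0) : ∃ m ∈ img27 K, Good S (m * g) ∧ colv (m * g) c c = 1 := by
  simp only [pairFix, Bool.and_eq_true, Nat.blt_eq] at hp
  obtain ⟨⟨hr, hA⟩, hB⟩ := hp
  obtain ⟨t, ht⟩ : ∃ t : K, t = (colv g c c)⁻¹ := ⟨_, rfl⟩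
  have ht0 : t ≠ 0 := ht ▸ inv_ne_zero hne
  have hI : hU K r t ∈ img27 K :=
    mul_mem (mul_mem (mul_mem (xU_mem_img27 _ _) (xU_mem_img27 _ _)) (xU_mem_img27 _ _))
      (mul_mem (mul_mem (xU_mem_img27 _ _) (xU_mem_img27 _ _)) (xU_mem_img27 _ _))
  refine ⟨hU K r t, hI, good_mul hI (mul_fix (mul_fix (mul_fix (xU_fix hA hS t) (xU_fix hB hS _)) (xU_fix hA hS t))
    (mul_fix (mul_fix (xU_fix hA hS _) (xU_fix hB hS _)) (xU_fix hA hS _))) hg, ?_⟩
  have hroot := (root_facts hr).1
  simp only [chkRoot, Bool.and_eq_true] at hroot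
  obtain ⟨⟨⟨⟨⟨⟨⟨_, _⟩, _⟩, _⟩, c1⟩, c2⟩, _⟩, _⟩ := hroot
  rw [colv_mul, hval hr t ht0]
  simp only [am, ← CfsgLib.Known.G2Oct.ev_pmul 27 _ _ (eL_cols _), Matrix.add_mulVec,
    Matrix.one_mulVec, Matrix.smul_mulVec, sub_eq_add_neg, Matrix.neg_mulVec]
  rw [← neg_one_smul K (ev 27 (pmul (eL r) (eL (opp r))) 1 *ᵥ _),
    ← neg_one_smul K (ev 27 (pmul (eL (opp r)) (eL r)) 1 *ᵥ _)]
  simp only [vx_add, vx_smul, row_eq c1 (by simp [colsLt, hc]) h1 hc, row_eq c2 rfl h2 hc, row_single]
  rw [← colv, show rowVal ([] : List Ent) (colv g c) c = 0 from rfl, ht]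
  field_simp
  ring

theorem step_spec {S : List ℕ} {st : Step} (h : chkStep S st = true) {σ : K} (hσ0 : σ ≠ 0) (hσ1 : σ ≠ 1)
    (g : GL (Fin 27) K) (hg : Good S g) : ∃ m ∈ img27 K, Good (st.tgt :: S) (m * g) := by
  simp only [chkStep, Bool.and_eq_true, Nat.blt_eq, List.all_eq_true] at h
  obtain ⟨⟨⟨⟨hc, hS⟩, hZ⟩, hT⟩, hC⟩ := h
  suffices ∃ m ∈ img27 K, Good S (m * g) ∧ colv (m * g) st.tgt st.tgt = 1 by
    obtain ⟨m, hm, h1, h2⟩ := this
    obtain ⟨m', hm', h3⟩ := clear_all hS hσ0 hσ1 hc hZ _ [] hC (m * g) h1 h2 (fun i hi => by simp at hi)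
    exact ⟨m' * m, mul_mem hm' hm, by rw [mul_assoc]; exact h3⟩
  unfold chkTarget at hT
  split at hT
  · next a b _ =>
    simp only [Bool.and_eq_true, List.contains_eq_mem, decide_eq_true_eq] at hT
    exact ⟨1, one_mem _, by rw [one_mul]; exact hg,
      by rw [one_mul, pair_value hg hS hσ0 hσ1 hT.1.1 hT.1.2 hT.2 hc, if_pos rfl]⟩
  · simp at hT
  · simp only [Bool.and_eq_true] at hT
    obtain ⟨⟨⟨⟨hw, hmv⟩, hp⟩, e1⟩, e2⟩ := hT
    have hex : ∃ i, colv g st.tgt i ≠ 0 ∧ covered st i = true := by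
      split at hw
      · by_contra hall
        push Not at hall
        simp only [List.all_eq_true, List.mem_range] at hw
        have h0 : (g : Matrix (Fin 27) (Fin 27) K) *ᵥ bv K st.tgt = 0 := funext fun i => by
          rw [← vx_val ((g : Matrix (Fin 27) (Fin 27) K) *ᵥ bv K st.tgt) i, ← colv]
          by_contra hne
          exact absurd (hw i i.2) (by simpa using hall i hne)
        have h1 := congrArg (fun v => ((g⁻¹ : GL (Fin 27) K) : Matrix (Fin 27) (Fin 27) K) *ᵥ v) h0
        simp only [Matrix.mulVec_mulVec, Units.inv_mul, Matrix.one_mulVec, Matrix.mulVec_zero] at h1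
        simpa [bv] using congrFun h1 ⟨st.tgt, hc⟩
      · next a _ _ =>
        simp only [Bool.and_eq_true, List.any_eq_true, List.all_eq_true, List.contains_eq_mem, decide_eq_true_eq,
          List.mem_range] at hw
        obtain ⟨⟨ha, e, he, hs⟩, hall⟩ := hw
        obtain ⟨m, hm, hne⟩ := witness_spec hg hS hσ0 hσ1 ha hc he hs
        exact ⟨_, hne, hall m hm⟩
    obtain ⟨i, hne, hcov⟩ := hex
    simp only [covered, Bool.or_eq_true, List.contains_eq_mem, decide_eq_true_eq] at hcov
    rcases hcov with hi | hi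
    · exact absurd (zeros_spec hg hS hσ0 hσ1 hc hZ i hi) hne
    · obtain ⟨⟨d, P⟩, hdP, rfl⟩ := List.mem_map.1 hi
      simp only [List.all_eq_true] at hmv
      obtain ⟨m, hm, h1, h2⟩ := move_all hS P d (hmv _ hdP) g hg hne
      obtain ⟨m', hm', h3, h4⟩ := scale_target hS hc hp e1 e2 (m * g) h1 h2
      exact ⟨m' * m, mul_mem hm' hm, by rw [mul_assoc]; exact h3, by rw [mul_assoc]; exact h4⟩

theorem steps_spec {σ : K} (hσ0 : σ ≠ 0) (hσ1 : σ ≠ 1) : ∀ (L : List Step) (S : List ℕ), chkSteps S L = true →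
    ∀ g : GL (Fin 27) K, Good S g → g ∈ img27 K
  | [], S, h, g, hg => by
    simp only [chkSteps, List.all_eq_true, List.mem_range, List.contains_eq_mem, decide_eq_true_eq] at h
    have h1 : g = 1 := by
      refine Units.ext (Matrix.ext fun i j => ?_)
      have := congrFun (hg.2 j (h j j.2)) i
      rw [bv_eq j.2, Matrix.mulVec_single_one] at this
      simpa [Matrix.one_apply, Pi.single_apply] using this
    rw [h1]
    exact one_mem _
  | st :: rest, S, h, g, hg => by
    simp only [chkSteps, Bool.and_eq_true] at h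
    obtain ⟨m, hm, h1⟩ := step_spec h.1 hσ0 hσ1 g hg
    exact ((img27 K).mul_mem_cancel_left hm).1 (steps_spec hσ0 hσ1 rest _ h.2 _ h1)

theorem iso_eq_img27 {σ : K} (hσ0 : σ ≠ 0) (hσ1 : σ ≠ 1) : iso K 27 mons = img27 K :=
  le_antisymm (fun g hg => steps_spec hσ0 hσ1 steps [] chkSteps_true g ⟨hg, fun _ h => by simp at h⟩) img27_le

end CfsgLib.Lie.CubicForm
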